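import Cfsg.Agent.Lib.Order175560.Search
import Cfsg.Agent.S0215
import Cfsg.Agent.S0514
import Cfsg.Agent.S0107
import Cfsg.Agent.S0494
import Cfsg.Agent.S3669
import Cfsg.Agent.Lib.TwoFour.Inverted
import Cfsg.Agent.Lib.Sig.LayerLocal
import Cfsg.Agent.Lib.Small.BlockShape
import Cfsg.Agent.Lib.Invol.Quaternion

/-!
A simple group of order `175560` has an involution centralizer `2 × A₅`.
-/

set_option autoImplicit false
set_option linter.unusedSectionVars false

open Subgroup

namespace Cfsg.Lib.Order175560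

open Cfsg.Agent.S4274

variable {G : Type*} [Group G] [Finite G]

theorem exists_unit_four : ∃ w : (ZMod 5)ˣ, orderOf w = 4 :=
  ⟨⟨2, 3, by decide, by decide⟩, orderOf_eq_prime_pow (p := 2) (n := 1) (by decide) (by decide)⟩

theorem centralizer_smul {p : ℕ} [Fact p.Prime] (g : G) (P : Sylow p G) :
    centralizer (((g • P : Sylow p G) : Subgroup G) : Set G) =
      (centralizer ((P : Subgroup G) : Set G)).map (MulAut.conj g).toMonoidHom := by
  ext x
  simp only [mem_centralizer_iff, mem_map_equiv, Sylow.coe_subgroup_smul, SetLike.mem_coe]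
  constructor
  · intro h y hy
    have h' := h (g * y * g⁻¹) (by
      rw [Subgroup.mem_pointwise_smul_iff_inv_smul_mem]
      simpa [MulAut.smul_def, mul_assoc] using hy)
    simp only [MulAut.conj_symm_apply]
    have e := congrArg (fun a => g⁻¹ * a * g) h'
    simpa [mul_assoc] using e
  · intro h y hy
    rw [Subgroup.mem_pointwise_smul_iff_inv_smul_mem] at hy
    have h' := h _ hy
    simp only [MulAut.smul_def, map_inv, MulAut.conj_inv_apply, MulAut.conj_symm_apply] at h'
    have e := congrArg (fun a => g * a * g⁻¹) h'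
    simpa [mul_assoc] using e

theorem card_centralizer_sylow_eq {p : ℕ} [Fact p.Prime] (P Q : Sylow p G) :
    Nat.card ↥(centralizer ((P : Subgroup G) : Set G)) =
      Nat.card ↥(centralizer ((Q : Subgroup G) : Set G)) := by
  obtain ⟨g, rfl⟩ := MulAction.exists_smul_eq G P Q
  rw [centralizer_smul, card_map_of_injective (MulAut.conj g).injective]

theorem card_normalizer_sylow {p : ℕ} [Fact p.Prime] (P : Sylow p G) :
    Nat.card (Sylow p G) * Nat.card ↥(normalizer ((P : Subgroup G) : Set G)) = Nat.card G := by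
  rw [P.card_eq_index_normalizer]
  exact Subgroup.index_mul_card _

/-- The local facts extracted from the search. -/
theorem facts [IsSimpleGroup G] (hG : Nat.card G = 175560) :
    (∀ [Fact (Nat.Prime 3)] (P : Sylow 3 G), Nat.card (Sylow 3 G) = 2926 ∧
        Nat.card ↥(normalizer ((P : Subgroup G) : Set G)) = 60 ∧
        Nat.card ↥(centralizer ((P : Subgroup G) : Set G)) = 30) ∧
    (∀ [Fact (Nat.Prime 5)] (P : Sylow 5 G), Nat.card (Sylow 5 G) = 2926 ∧
        Nat.card ↥(normalizer ((P : Subgroup G) : Set G)) = 60 ∧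
        (Nat.card ↥(centralizer ((P : Subgroup G) : Set G)) = 30 ∨
          Nat.card ↥(centralizer ((P : Subgroup G) : Set G)) = 15)) ∧
    (∀ [Fact (Nat.Prime 5)] [Fact (Nat.Prime 11)] (P : Sylow 5 G) (Q : Sylow 11 G),
      Nat.card ↥(centralizer ((P : Subgroup G) : Set G)) = 30 →
      2 ∣ Nat.card ↥(centralizer ((Q : Subgroup G) : Set G)) →
        Nat.card ↥(centralizer ((Q : Subgroup G) : Set G)) = 22 ∧
        Nat.card ↥(normalizer ((Q : Subgroup G) : Set G)) = 110) := by
  obtain ⟨f, hf, hok⟩ := exists_recs hG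
  simp only [okRecs, List.map_cons, List.map_nil, List.all_cons, List.all_nil, List.any_cons,
    List.any_nil, (hf 3 (by simp)).1, (hf 5 (by simp)).1, (hf 7 (by simp)).1, (hf 11 (by simp)).1,
    (hf 19 (by simp)).1] at hok
  norm_num at hok
  obtain ⟨h3, h5, h11⟩ := hok
  have loc : ∀ (p : ℕ) (hm : p ∈ [19, 11, 7, 5, 3]) [Fact p.Prime] (P : Sylow p G),
      Nat.card (Sylow p G) = (f p).s ∧
      (f p).s * Nat.card ↥(normalizer ((P : Subgroup G) : Set G)) = 175560 ∧
      Nat.card ↥(centralizer ((P : Subgroup G) : Set G)) = p * (f p).c := by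
    intro p hm _ P
    obtain ⟨-, _, P0, hs, hc⟩ := hf p hm
    exact ⟨hs, by rw [← hs, card_normalizer_sylow, hG], (card_centralizer_sylow_eq P P0).trans hc⟩
  refine ⟨?_, ?_, ?_⟩
  · intro _ P
    obtain ⟨a, b, c⟩ := loc 3 (by simp) P
    rw [h3.1] at a b
    rw [h3.2] at c
    exact ⟨a, by omega, c⟩
  · intro _ P
    obtain ⟨a, b, c⟩ := loc 5 (by simp) P
    rw [h5.1] at a b
    refine ⟨a, by omega, ?_⟩
    rcases h5.2 with h | h <;> rw [h] at c <;> omega
  · intro _ _ P Q hP hQ
    obtain ⟨a, b, c⟩ := loc 5 (by simp) P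
    obtain ⟨a', b', c'⟩ := loc 11 (by simp) Q
    rcases h11 with (h | ⟨h, h'⟩) | h
    · rw [c'] at hQ; omega
    · rw [h] at c'; rw [h'] at b'; exact ⟨c', by omega⟩
    · omega

/-- An automorphism of odd order of an abelian group fixing every element of order two is trivial. -/
theorem fix_two_power {A : Type*} [CommGroup A] (σ : MulAut A) {m : ℕ} (hm : Odd m) (hσ : σ ^ m = 1)
    (h1 : ∀ a : A, a ^ 2 = 1 → σ a = a) : ∀ (k : ℕ) (a : A), a ^ (2 ^ k) = 1 → σ a = a := by
  intro k
  induction k with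
  | zero => intro a ha; rw [pow_zero, pow_one] at ha; rw [ha, map_one]
  | succ k ih =>
    intro a ha
    have h2 : σ (a ^ 2) = a ^ 2 := ih _ (by rw [← pow_mul, ← pow_succ']; exact ha)
    set w := a⁻¹ * σ a with hw
    have hw2 : w ^ 2 = 1 := by rw [hw, mul_pow, inv_pow, ← map_pow, h2, inv_mul_cancel]
    have hiter : ∀ i : ℕ, (σ ^ i) a = a * w ^ i := by
      intro i
      induction i with
      | zero => simp
      | succ i hi =>
        rw [pow_succ', MulAut.mul_apply, hi, map_mul, map_pow, h1 w hw2, pow_succ', hw]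
        simp [mul_assoc]
    have hm' := hiter m
    rw [hσ, MulAut.one_apply] at hm'
    have hwm : w ^ m = 1 := by simpa using hm'.symm
    obtain ⟨j, rfl⟩ := hm
    rw [pow_succ, pow_mul, hw2, one_pow, one_mul] at hwm
    rw [hw, inv_mul_eq_one] at hwm
    exact hwm.symm

/-- An abelian group of order eight with a nontrivial automorphism of odd order fixing an
involution is elementary. -/
theorem sq_eq_one_of_aut {A : Type*} [CommGroup A] [Finite A] (hA : Nat.card A = 8) (σ : MulAut A) {m : ℕ}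
    (hm : Odd m) (hσ : σ ^ m = 1) (hne : σ ≠ 1) {t : A} (ht1 : t ≠ 1) (ht2 : t ^ 2 = 1) (htf : σ t = t) :
    ∀ a : A, a ^ 2 = 1 := by
  classical
  by_contra hcon
  push Not at hcon
  obtain ⟨b, hb⟩ := hcon
  set K := (powMonoidHom 2 : A →* A).ker with hK
  have hmem : ∀ a : A, a ∈ K ↔ a ^ 2 = 1 := fun a => Iff.rfl
  have hK4 : Nat.card K ≤ 4 := by
    have hne' : K ≠ ⊤ := fun h => hb ((hmem b).1 (h ▸ mem_top b))
    have h1 := K.index_mul_card
    have h2 := K.one_lt_index_of_ne_top hne'
    rw [hA] at h1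
    by_contra h4
    have : 2 * 5 ≤ K.index * Nat.card K := Nat.mul_le_mul h2 (by omega)
    omega
  refine hne ?_
  ext a
  refine fix_two_power σ hm hσ ?_ 3 a (by rw [show 2 ^ 3 = Nat.card A by rw [hA]; rfl]; exact pow_card_eq_one')
  intro u hu
  by_contra hmove
  have hu1 : u ≠ 1 := fun h => hmove (by rw [h, map_one])
  have hut : u ≠ t := fun h => hmove (by rw [h, htf])
  have hsu1 : σ u ≠ 1 := fun h => hu1 (σ.injective (h.trans σ.map_one.symm))
  have hsut : σ u ≠ t := fun h => hut (σ.injective (h.trans htf.symm))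
  have hsu : (σ u) ^ 2 = 1 := by rw [← map_pow, hu, map_one]
  have hssu : (σ (σ u)) ^ 2 = 1 := by rw [← map_pow, hsu, map_one]
  let T : Finset A := {1, t, u, σ u, σ (σ u)}
  have hTK : T.card ≤ Nat.card K := by
    rw [← Nat.card_eq_finsetCard]
    refine Nat.card_le_card_of_injective (fun x => (⟨x.1, ?_⟩ : K)) fun x y h =>
      Subtype.ext (congrArg Subtype.val h :)
    rw [hmem]
    have := x.2
    simp only [T, Finset.mem_insert, Finset.mem_singleton] at this
    rcases this with h | h | h | h | h <;> rw [h]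
    · exact one_pow 2
    · exact ht2
    · exact hu
    · exact hsu
    · exact hssu
  have hback : σ (σ u) = u := by
    by_contra h
    have e2 : σ (σ u) ≠ σ u := fun e => hmove (σ.injective e)
    have e1 : σ (σ u) ≠ 1 := fun e => hsu1 (σ.injective (e.trans σ.map_one.symm))
    have et : σ (σ u) ≠ t := fun e => hsut (σ.injective (e.trans htf.symm))
    have : T.card = 5 := by
      simp [T, ht1.symm, hu1.symm, hsu1.symm, Ne.symm e1, Ne.symm hut, Ne.symm hsut, Ne.symm et,
        Ne.symm hmove, Ne.symm h, Ne.symm e2]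
    omega
  obtain ⟨j, rfl⟩ := hm
  have he : ∀ i : ℕ, (σ ^ (2 * i)) u = u := by
    intro i
    induction i with
    | zero => simp
    | succ i hi =>
      rw [show 2 * (i + 1) = 2 + 2 * i by omega, pow_add, MulAut.mul_apply, hi, pow_two,
        MulAut.mul_apply, hback]
  apply hmove
  have := congrArg (fun e : MulAut A => e u) hσ
  simp only [pow_succ', MulAut.mul_apply, he, MulAut.one_apply] at this
  exact this

section simple

variable [IsSimpleGroup G] (hG : Nat.card G = 175560)
include hG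

theorem not_isCyclic : ¬ IsCyclic G :=
  Cfsg.Lib.Small.not_isCyclic_of_card (by rw [hG]; norm_num)

theorem center_eq_bot : center G = ⊥ := by
  refine ((inferInstance : (center G).Normal).eq_bot_or_eq_top).resolve_right fun h => ?_
  haveI := Fintype.ofFinite G
  have h' := Cfsg.Lib.Small.commutator_eq_top (not_isCyclic hG)
  rw [_root_.commutator_def, h.symm] at h'
  have h0 : ⁅center G, center G⁆ = (⊥ : Subgroup G) := by
    rw [commutator_eq_bot_iff_le_centralizer, centralizer_eq_top_iff_subset.2 le_rfl]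
    exact le_top
  rw [h0, h] at h'
  have := congrArg (fun H : Subgroup G => Nat.card H) h'
  simp only [Subgroup.card_bot, Subgroup.card_top, hG] at this
  omega

theorem no_isolated (P : Sylow 2 G) {u : G} (hu : orderOf u = 2) (huP : u ∈ P) :
    ¬ ∀ g : G, g * u * g⁻¹ ∈ P → g * u * g⁻¹ = u := by
  intro hiso
  obtain ⟨N, hN, hodd, hc⟩ := Cfsg.Agent.S0215.result P u hu huP hiso
  have hbot : N = ⊥ := hN.eq_bot_or_eq_top.resolve_right fun h => by
    rw [h, Subgroup.card_top, hG] at hodd
    exact absurd hodd (by decide)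
  have hz : u ∈ center G := mem_center_iff.2 fun g => by
    have h := hc g
    rw [hbot, mem_bot, mul_inv_eq_one, mul_inv_eq_iff_eq_mul] at h
    exact h.symm
  rw [center_eq_bot hG, mem_bot] at hz
  rw [hz, orderOf_one] at hu
  norm_num at hu

theorem card_sylow_two (P : Sylow 2 G) : Nat.card ↥(P : Subgroup G) = 8 := by
  have := (Cfsg.Lib.Small.card_sylow (p := 2) 3 21945 (by rw [hG]; norm_num) (by norm_num) P)
  simpa using this

/-- The centralizer of an involution commuting with a subgroup of order three has no normal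
`2`-complement, when it contains a Sylow `2`-subgroup. -/
theorem no_complement [Fact (Nat.Prime 3)] (P : Sylow 3 G) {t : G}
    (ht : t ∈ centralizer ((P : Subgroup G) : Set G)) (C : Subgroup G) (hC : C = centralizer ({t} : Set G))
    (h8 : 8 ∣ Nat.card ↥C) (N : Subgroup ↥C) [N.Normal] (hodd : Odd (Nat.card N)) {k : ℕ}
    (hk : N.index = 2 ^ k) : False := by
  have hPC : (P : Subgroup G) ≤ C := fun x hx => by
    rw [hC, mem_centralizer_singleton_iff]
    exact (mem_centralizer_iff.1 ht x hx)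
  have hPN : ((P.subtype hPC : Sylow 3 ↥C) : Subgroup ↥C) ≤ N := by
    intro x hx
    rw [Sylow.coe_subtype, mem_subgroupOf] at hx
    have h1 : x ^ 3 = 1 := Subtype.ext (by
      have h := orderOf_dvd_natCard (⟨(x : G), hx⟩ : ↥(P : Subgroup G))
      rw [Subgroup.orderOf_mk, sylow_card_eq (by rw [hG]; norm_num) (by rw [hG]; norm_num) P] at h
      simpa using orderOf_dvd_iff_pow_eq_one.1 h)
    have h2 : (QuotientGroup.mk x : ↥C ⧸ N) ^ 3 = 1 := by
      rw [← QuotientGroup.mk_pow, h1, QuotientGroup.mk_one]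
    have h3 : (QuotientGroup.mk x : ↥C ⧸ N) ^ (2 ^ k) = 1 := by
      rw [← hk, Subgroup.index_eq_card]; exact pow_card_eq_one'
    have h4 := pow_gcd_eq_one.2 ⟨h2, h3⟩
    rw [(Nat.Coprime.pow_right k (by norm_num : Nat.Coprime 3 2)).gcd_eq_one, pow_one] at h4
    exact (QuotientGroup.eq_one_iff x).1 h4
  have hsup := Sylow.normalizer_sup_eq_top' (P.subtype hPC) hPN
  set M := normalizer (((P.subtype hPC : Sylow 3 ↥C) : Subgroup ↥C) : Set ↥C) with hM
  have h8M : 8 ∣ Nat.card M := by
    have hcop : Nat.Coprime 8 (Nat.card N) :=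
      Nat.Coprime.pow_left 3 (Nat.coprime_two_left.2 hodd)
    have h : 8 ∣ N.index := hcop.dvd_of_dvd_mul_right (by rw [N.index_mul_card]; exact h8)
    have h' := relIndex_sup_right M N
    have hsup' : M ⊔ N = ⊤ := hsup
    rw [hsup', relIndex_top_right] at h'
    rw [h'] at h
    exact h.trans (relIndex_dvd_card N M)
  have hle : M.map C.subtype ≤ normalizer ((P : Subgroup G) : Set G) := by
    rintro _ ⟨x, hx, rfl⟩
    rw [hM, SetLike.mem_coe, mem_normalizer_iff] at hx
    rw [mem_normalizer_iff]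
    intro y
    constructor
    · intro hy
      have := (hx ⟨y, hPC hy⟩).1 (by rw [Sylow.coe_subtype, mem_subgroupOf]; exact hy)
      rw [Sylow.coe_subtype, mem_subgroupOf] at this
      exact this
    · intro hy
      have hyC : y ∈ C := by
        have := C.mul_mem (C.mul_mem (C.inv_mem x.2) (hPC hy)) x.2
        simpa [mul_assoc] using this
      have := (hx ⟨y, hyC⟩).2 (by rw [Sylow.coe_subtype, mem_subgroupOf]; exact hy)
      rw [Sylow.coe_subtype, mem_subgroupOf] at this
      exact this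
  have h60 := Subgroup.card_dvd_of_le hle
  rw [card_map_of_injective C.subtype_injective, ((facts hG).1 P).2.1] at h60
  exact absurd (h8M.trans h60) (by norm_num)


theorem exists_involution_cases [Fact (Nat.Prime 3)] (P : Sylow 3 G) :
    (∀ T : Sylow 2 G, ∀ a ∈ (T : Subgroup G), ∀ b ∈ (T : Subgroup G), a * b = b * a) ∧
    ∃ t : G, orderOf t = 2 ∧ t ∈ centralizer ((P : Subgroup G) : Set G) := by
  haveI : Fact (Nat.Prime 2) := ⟨Nat.prime_two⟩
  obtain ⟨t, ht⟩ := exists_prime_orderOf_dvd_card' 2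
    (show 2 ∣ Nat.card ↥(centralizer ((P : Subgroup G) : Set G)) by rw [((facts hG).1 P).2.2]; norm_num)
  refine ⟨?_, (t : G), by rw [orderOf_coe]; exact ht, t.2⟩
  by_contra hcon
  push Not at hcon
  obtain ⟨S, a, ha, b, hb, hab⟩ := hcon
  rcases Cfsg.Lib.TwoFour.eight (card_sylow_two hG S) (⟨a, ha⟩ : ↥(S : Subgroup G)) ⟨b, hb⟩
    (fun h => hab (congrArg Subtype.val h)) with he | he
  · -- dihedral
    obtain ⟨e⟩ := he
    obtain ⟨T, hT⟩ := IsPGroup.exists_le_sylow (G := G) (p := 2)
      (IsPGroup.of_card (n := 1) (by rw [Nat.card_zpowers, orderOf_coe, ht, pow_one]) :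
        IsPGroup 2 ↥(zpowers (t : G)))
    have hO : Cfsg.pResidual 2 G = ⊤ := by
      haveI := Fintype.ofFinite G
      exact Cfsg.Lib.Sig.pResidual_eq_top_of_perfect
        (Cfsg.Lib.Small.commutator_eq_top (not_isCyclic hG))
    obtain ⟨z, hz⟩ := exists_prime_orderOf_dvd_card' 2
      (show 2 ∣ Nat.card ↥(center ↥(S : Subgroup G)) by
        haveI : Nontrivial ↥(S : Subgroup G) := Finite.one_lt_card_iff_nontrivial.1 (by
          rw [card_sylow_two hG S]; norm_num)
        haveI := S.2.center_nontrivial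
        obtain ⟨j, hj⟩ := IsPGroup.iff_card.1 (S.2.to_subgroup (center ↥(S : Subgroup G)))
        have h1 : 1 < Nat.card ↥(center ↥(S : Subgroup G)) := Finite.one_lt_card_iff_nontrivial.2 ‹_›
        rcases j with _ | j
        · rw [hj] at h1; norm_num at h1
        · rw [hj, pow_succ]; exact dvd_mul_left _ _)
    obtain ⟨g, hg⟩ := Cfsg.Agent.S0107.result S 2 le_rfl ⟨e⟩ hO ((z : ↥(S : Subgroup G)) : G) (t : G)
      (by rw [orderOf_coe, orderOf_coe]; exact hz) (by rw [orderOf_coe]; exact ht)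
    have h8 : 8 ∣ Nat.card ↥(centralizer ({(t : G)} : Set G)) := by
      rw [← card_sylow_two hG S,
        ← card_map_of_injective (K := (S : Subgroup G)) (f := (MulAut.conj g).toMonoidHom) (MulAut.conj g).injective]
      refine card_dvd_of_le ?_
      rintro _ ⟨x, hx, rfl⟩
      rw [mem_centralizer_singleton_iff, ← hg]
      have h := congrArg Subtype.val (mem_center_iff.1 z.2 ⟨x, hx⟩)
      simp only [Subgroup.coe_mul] at h
      simp only [MulEquiv.coe_toMonoidHom, MulAut.conj_apply]
      calc g * x * g⁻¹ * (g * _ * g⁻¹) = g * (x * ((z : ↥(S : Subgroup G)) : G)) * g⁻¹ := by group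
        _ = _ := by rw [h]; group
    obtain ⟨N, hN, hodd, k, hk⟩ := Cfsg.Agent.S0514.result S 4 (by norm_num) ⟨e⟩ (t : G)
      (by rw [orderOf_coe]; exact ht)
    exact no_complement hG P t.2 _ rfl h8 N hodd hk
  · -- quaternion
    obtain ⟨e⟩ := he
    obtain ⟨u, hu⟩ := exists_prime_orderOf_dvd_card' (G := ↥(S : Subgroup G)) 2
      (by rw [card_sylow_two hG S]; norm_num)
    refine no_isolated hG S (u := (u : G)) (by rw [orderOf_coe]; exact hu) u.2 fun g hg => ?_
    have h1 : orderOf (⟨g * (u : G) * g⁻¹, hg⟩ : ↥(S : Subgroup G)) = 2 := by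
      rw [Subgroup.orderOf_mk]
      refine (orderOf_injective (MulAut.conj g).toMonoidHom (MulAut.conj g).injective (u : G)).trans ?_
      rw [orderOf_coe]; exact hu
    have h2 : e ⟨g * (u : G) * g⁻¹, hg⟩ = e u :=
      (Cfsg.Lib.Invol.quaternion_eq_of_orderOf_two (by rw [MulEquiv.orderOf_eq]; exact h1)).trans
        (Cfsg.Lib.Invol.quaternion_eq_of_orderOf_two (by rw [MulEquiv.orderOf_eq]; exact hu)).symm
    exact congrArg Subtype.val (e.injective h2)

/-- An involution commuting with a subgroup of order three, and the Sylow `2`-subgroups are elementary. -/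
theorem elementary [Fact (Nat.Prime 3)] (P : Sylow 3 G) :
    (∀ T : Sylow 2 G, ∀ a ∈ (T : Subgroup G), a ^ 2 = 1) ∧
    ∃ (t : G) (T : Sylow 2 G), orderOf t = 2 ∧ t ∈ centralizer ((P : Subgroup G) : Set G) ∧
      t ∈ (T : Subgroup G) ∧ (T : Subgroup G) ≤ centralizer ({t} : Set G) := by
  haveI : Fact (Nat.Prime 2) := ⟨Nat.prime_two⟩
  obtain ⟨hab, t, ht, htP⟩ := exists_involution_cases hG P
  obtain ⟨T, hT⟩ := IsPGroup.exists_le_sylow (G := G) (p := 2)
    (IsPGroup.of_card (n := 1) (by rw [Nat.card_zpowers, ht, pow_one]) : IsPGroup 2 ↥(zpowers t))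
  have htT : t ∈ (T : Subgroup G) := hT (mem_zpowers t)
  have hTC : (T : Subgroup G) ≤ centralizer ({t} : Set G) := fun x hx =>
    mem_centralizer_singleton_iff.2 (hab T x hx t htT)
  refine ⟨?_, t, T, ht, htP, htT, hTC⟩
  suffices hel : ∀ a ∈ (T : Subgroup G), a ^ 2 = 1 by
    intro R a ha
    have e := T.equiv R
    obtain ⟨b, hb⟩ := e.surjective ⟨a, ha⟩
    have h := congrArg Subtype.val (show (⟨a, ha⟩ : ↥(R : Subgroup G)) ^ 2 = 1 by
      rw [← hb, ← map_pow, show b ^ 2 = 1 from Subtype.ext (hel b b.2), map_one])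
    simpa using h
  obtain ⟨C, hC⟩ : ∃ C : Subgroup G, C = centralizer ({t} : Set G) := ⟨_, rfl⟩
  have hTC' : (T : Subgroup G) ≤ C := hC ▸ hTC
  let T' : Sylow 2 ↥C := T.subtype hTC'
  have h8 : 8 ∣ Nat.card ↥C := by rw [← card_sylow_two hG T]; exact card_dvd_of_le hTC'
  have hnb : ¬ normalizer ((T' : Subgroup ↥C) : Set ↥C) ≤ centralizer ((T' : Subgroup ↥C) : Set ↥C) := by
    intro hle
    have hc := MonoidHom.ker_transferSylow_isComplement' T' hle
    have hcard : Nat.card ↥(T' : Subgroup ↥C) = 8 := by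
      rw [Sylow.coe_subtype, Nat.card_congr (subgroupOfEquivOfLe hTC').toEquiv, card_sylow_two hG T]
    refine no_complement hG P htP C hC h8 (MonoidHom.transferSylow T' hle).ker ?_ (k := 3) ?_
    · have h1 := T'.not_dvd_index
      rw [hc.index_eq_card] at h1
      rwa [← Nat.not_even_iff_odd, even_iff_two_dvd]
    · rw [hc.symm.index_eq_card, hcard]
      norm_num
  obtain ⟨g, hgN, hgC⟩ := SetLike.not_le_iff_exists.1 hnb
  set A := (T' : Subgroup ↥C) with hA
  have hAab : ∀ a ∈ A, ∀ b ∈ A, a * b = b * a := fun a ha b hb =>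
    Subtype.ext (hab T _ (mem_subgroupOf.1 (Sylow.coe_subtype T hTC' ▸ ha)) _
      (mem_subgroupOf.1 (Sylow.coe_subtype T hTC' ▸ hb)))
  haveI : IsMulCommutative ↥A := ⟨⟨fun a b => Subtype.ext (hAab a a.2 b b.2)⟩⟩
  letI : CommGroup ↥A := { (inferInstance : Group ↥A) with
    mul_comm := fun a b => Subtype.ext (hAab a a.2 b b.2) }
  set φ := normalizerMonoidHom A with hφ
  set σ : MulAut ↥A := φ ⟨g, hgN⟩ with hσ
  have hσ1 : σ ≠ 1 := by
    intro h
    apply hgC
    rw [mem_centralizer_iff]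
    intro a ha
    have h1 : g * a * g⁻¹ = a := congrArg Subtype.val (DFunLike.congr_fun h (⟨a, ha⟩ : ↥A))
    exact (mul_inv_eq_iff_eq_mul.1 h1).symm
  have hodd : Odd (Nat.card φ.range) := by
    rw [← index_ker]
    have hker : A.subgroupOf (normalizer (A : Set ↥C)) ≤ φ.ker := by
      intro x hx
      rw [MonoidHom.mem_ker]
      ext a
      show ((x : ↥C) * (a : ↥C) * (x : ↥C)⁻¹ : ↥C).1 = (a : ↥C).1
      rw [hAab _ (mem_subgroupOf.1 hx) _ a.2, mul_inv_cancel_right]
    have h2 : (A.subgroupOf (normalizer (A : Set ↥C))).index ∣ A.index :=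
      Dvd.intro _ (relIndex_mul_index (H := A) (K := normalizer (A : Set ↥C)) le_normalizer)
    rw [← Nat.not_even_iff_odd, even_iff_two_dvd]
    exact fun h => T'.not_dvd_index (h.trans ((index_dvd_of_le hker).trans h2))
  have hσm : σ ^ Nat.card φ.range = 1 :=
    orderOf_dvd_iff_pow_eq_one.1 (Subgroup.orderOf_dvd_natCard _ (MonoidHom.mem_range.2 ⟨⟨g, hgN⟩, rfl⟩))
  have htA : (⟨t, hC ▸ mem_centralizer_singleton_iff.2 rfl⟩ : ↥C) ∈ A := by
    rw [hA, Sylow.coe_subtype, mem_subgroupOf]; exact htT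
  have hres := sq_eq_one_of_aut (A := ↥A)
    (by rw [hA, Sylow.coe_subtype, Nat.card_congr (subgroupOfEquivOfLe hTC').toEquiv, card_sylow_two hG T])
    σ hodd hσm hσ1 (t := ⟨_, htA⟩)
    (fun h => by
      have : t = 1 := congrArg (fun x : ↥A => ((x : ↥C) : G)) h
      rw [this, orderOf_one] at ht
      norm_num at ht)
    (Subtype.ext (Subtype.ext (show t ^ 2 = 1 by rw [← ht]; exact pow_orderOf_eq_one t)))
    (Subtype.ext (Subtype.ext (by
      show (g : G) * t * (g : G)⁻¹ = t
      have hg : (g : G) * t = t * (g : G) := mem_centralizer_singleton_iff.1 (hC ▸ g.2)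
      rw [hg, mul_inv_cancel_right])))
  intro a ha
  have h := congrArg (fun x : ↥A => ((x : ↥C) : G)) (hres ⟨⟨a, hTC' ha⟩, by
    rw [hA, Sylow.coe_subtype, mem_subgroupOf]; exact ha⟩)
  simpa using h

theorem four_not_dvd_orderOf [Fact (Nat.Prime 3)] (P : Sylow 3 G) (g : G) : ¬ 4 ∣ orderOf g := by
  intro h
  haveI : Fact (Nat.Prime 2) := ⟨Nat.prime_two⟩
  set u := g ^ (orderOf g / 4) with hu
  have hu4 : orderOf u = 4 := orderOf_pow_orderOf_div (orderOf_pos g).ne' h
  obtain ⟨T, hT⟩ := IsPGroup.exists_le_sylow (G := G) (p := 2)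
    (IsPGroup.of_card (n := 2) (by rw [Nat.card_zpowers, hu4]; rfl) : IsPGroup 2 ↥(zpowers u))
  have := orderOf_dvd_of_pow_eq_one ((elementary hG P).1 T u (hT (mem_zpowers u)))
  rw [hu4] at this
  norm_num at this


theorem cent_smul {p : ℕ} [Fact p.Prime] (P : Sylow p G) {g : G}
    (h : g ∈ centralizer ((P : Subgroup G) : Set G)) : g ∈ normalizer ((P : Subgroup G) : Set G) :=
  centralizer_le_normalizer _ h

/-- The subgroup of order five commuting with a subgroup of order three. -/
theorem exists_five [Fact (Nat.Prime 3)] [Fact (Nat.Prime 5)] (P : Sylow 3 G) :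
    ∃ Q : Sylow 5 G, (Q : Subgroup G) ≤ centralizer ((P : Subgroup G) : Set G) ∧
      (P : Subgroup G) ≤ centralizer ((Q : Subgroup G) : Set G) ∧
      normalizer ((P : Subgroup G) : Set G) = normalizer ((Q : Subgroup G) : Set G) := by
  have h31 : 3 ∣ Nat.card G := by rw [hG]; norm_num
  have h32 : ¬ 3 * 3 ∣ Nat.card G := by rw [hG]; norm_num
  have h51 : 5 ∣ Nat.card G := by rw [hG]; norm_num
  have h52 : ¬ 5 * 5 ∣ Nat.card G := by rw [hG]; norm_num
  obtain ⟨Q0⟩ : Nonempty (Sylow 5 G) := inferInstance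
  obtain ⟨s3, N3, C3⟩ := (facts hG).1 P
  obtain ⟨s5, N5, C5⟩ := (facts hG).2.1 Q0
  have hab := innerCount_mul P Q0
  rw [s3, s5] at hab
  have hab' : innerCount P 5 = innerCount Q0 3 := by omega
  obtain ⟨ha1, ha2⟩ := innerCount_mod (q := 5) h51 h52 P (by rw [C3]; norm_num)
  rw [C3] at ha2
  obtain ⟨hb1, hb2⟩ := innerCount_mod (q := 3) h31 h32 Q0 (by rcases C5 with h | h <;> rw [h] <;> norm_num)
  have hale := Nat.le_of_dvd (by norm_num) ha2
  have hb2' : innerCount Q0 3 ∣ 10 := by
    rcases C5 with h | h <;> rw [h] at hb2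
    · exact hb2
    · exact hb2.trans (by norm_num)
  have h1 : innerCount P 5 = 1 := by
    have key : ∀ a, a ≤ 6 → a % 5 = 1 → a % 3 = 1 → a = 1 := by decide
    exact key _ (by simpa using hale) ha1 (hab' ▸ hb1)
  obtain ⟨hsub, ⟨Q, hQ⟩⟩ := Nat.card_eq_one_iff_unique.1 h1
  have hPQ : (P : Subgroup G) ≤ centralizer ((Q : Subgroup G) : Set G) :=
    Subgroup.le_centralizer_iff.1 hQ
  refine ⟨Q, hQ, hPQ, ?_⟩
  refine eq_of_le_of_card_ge (fun g hg => ?_) (by rw [N3, ((facts hG).2.1 Q).2.1])
  have hgP : g • P = P := Sylow.smul_eq_iff_mem_normalizer.2 hg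
  have hgQ := smul_le_centralizer g P Q hQ
  rw [hgP] at hgQ
  exact Sylow.smul_eq_iff_mem_normalizer.1
    (congrArg Subtype.val (hsub.allEq ⟨g • Q, hgQ⟩ ⟨Q, hQ⟩))

theorem card_five_centralizer [Fact (Nat.Prime 3)] [Fact (Nat.Prime 5)] (P : Sylow 3 G) (Q : Sylow 5 G) :
    Nat.card ↥(centralizer ((Q : Subgroup G) : Set G)) = 30 := by
  obtain ⟨-, N5, C5⟩ := (facts hG).2.1 Q
  refine C5.resolve_right fun h15 => ?_
  have hQc : Nat.card ↥(Q : Subgroup G) = 5 :=
    sylow_card_eq (by rw [hG]; norm_num) (by rw [hG]; norm_num) Q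
  haveI := isCyclic_of_prime_card hQc
  set N := normalizer ((Q : Subgroup G) : Set G) with hN
  set φ := normalizerMonoidHom (Q : Subgroup G) with hφ
  have hrange : Nat.card φ.range = 4 := by
    rw [← index_ker, hφ, normalizerMonoidHom_ker]
    have h := ((centralizer ((Q : Subgroup G) : Set G)).subgroupOf N).index_mul_card
    rw [Nat.card_congr (subgroupOfEquivOfLe (centralizer_le_normalizer _)).toEquiv, h15] at h
    rw [hN] at h
    rw [N5] at h
    omega
  have hMA : Nat.card (MulAut ↥(Q : Subgroup G)) = 4 := by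
    rw [IsCyclic.card_mulAut, hQc]; decide
  have htop : φ.range = ⊤ := eq_top_of_card_eq _ (by rw [hrange, hMA])
  let e := IsCyclic.mulAutMulEquiv (↥(Q : Subgroup G))
  have h2 : ∃ w : MulAut ↥(Q : Subgroup G), orderOf w = 4 := by
    obtain ⟨w, hw⟩ : ∃ w : (ZMod (Nat.card ↥(Q : Subgroup G)))ˣ, orderOf w = 4 := by
      rw [hQc]
      exact exists_unit_four
    exact ⟨e.symm w, by rw [MulEquiv.orderOf_eq]; exact hw⟩
  obtain ⟨w, hw⟩ := h2
  obtain ⟨g, hg⟩ := MonoidHom.mem_range.1 (htop ▸ mem_top w : w ∈ φ.range)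
  refine four_not_dvd_orderOf hG P (g : G) ?_
  rw [orderOf_coe, ← hw, ← hg]
  exact orderOf_map_dvd _ _

/-- A subgroup of order four inside an involution centralizer and a subgroup of order sixty. -/
theorem four_dvd_inter [Fact (Nat.Prime 3)] (P : Sylow 3 G) (M : Subgroup G) (hM : Nat.card M = 60)
    {u : G} (hu : orderOf u = 2) (huM : u ∈ M) :
    4 ∣ Nat.card ↥(M ⊓ centralizer ({u} : Set G) : Subgroup G) := by
  haveI : Fact (Nat.Prime 2) := ⟨Nat.prime_two⟩
  obtain ⟨V, hV⟩ := IsPGroup.exists_le_sylow (G := ↥M) (p := 2)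
    (IsPGroup.of_card (n := 1) (by rw [Nat.card_zpowers, Subgroup.orderOf_mk, hu, pow_one]) :
      IsPGroup 2 ↥(zpowers (⟨u, huM⟩ : ↥M)))
  have hV4 : Nat.card ↥(V : Subgroup ↥M) = 4 := by
    have := Cfsg.Lib.Small.card_sylow (G := ↥M) (p := 2) 2 15 (by rw [hM]; norm_num) (by norm_num) V
    simpa using this
  obtain ⟨R, hR⟩ := IsPGroup.exists_le_sylow (V.2.map M.subtype)
  rw [← hV4, ← card_map_of_injective (K := (V : Subgroup ↥M)) M.subtype_injective]
  refine card_dvd_of_le (le_inf (map_subtype_le _) ?_)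
  intro x hx
  rw [mem_centralizer_singleton_iff]
  have huV : u ∈ (V : Subgroup ↥M).map M.subtype := ⟨⟨u, huM⟩, hV (mem_zpowers _), rfl⟩
  exact (exists_involution_cases hG P).1 R x (hR hx) u (hR huV)

/-- A group of order at most sixty-fold: the centralizer of the involution has order `120`. -/
theorem exists_centralizer [Fact (Nat.Prime 3)] [Fact (Nat.Prime 5)] :
    ∃ (t : G) (T : Sylow 2 G), orderOf t = 2 ∧ t ∈ (T : Subgroup G) ∧
      (T : Subgroup G) ≤ centralizer ({t} : Set G) ∧
      Nat.card ↥(centralizer ({t} : Set G)) = 120 ∧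
      Nat.card (Sylow 5 ↥(centralizer ({t} : Set G))) = 6 := by
  obtain ⟨P⟩ : Nonempty (Sylow 3 G) := inferInstance
  obtain ⟨Q, hQP, hPQ, hNN⟩ := exists_five hG P
  obtain ⟨-, t, T, ht, htP, htT, hTC⟩ := elementary hG P
  obtain ⟨s3, N3, C3⟩ := (facts hG).1 P
  obtain ⟨s5, N5, -⟩ := (facts hG).2.1 Q
  have C5 := card_five_centralizer hG P Q
  have hP3 : Nat.card ↥(P : Subgroup G) = 3 :=
    sylow_card_eq (by rw [hG]; norm_num) (by rw [hG]; norm_num) P
  have hQ5 : Nat.card ↥(Q : Subgroup G) = 5 :=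
    sylow_card_eq (by rw [hG]; norm_num) (by rw [hG]; norm_num) Q
  obtain ⟨C, hC⟩ : ∃ C : Subgroup G, C = centralizer ({t} : Set G) := ⟨_, rfl⟩
  have h8 : 8 ∣ Nat.card C := by rw [← card_sylow_two hG T]; exact card_dvd_of_le (hC ▸ hTC)
  -- membership in a centralizer of a point
  have hcen : ∀ {x : G} {H : Subgroup G}, x ∈ centralizer (H : Set G) → H ≤ centralizer ({x} : Set G) :=
    fun hx y hy => mem_centralizer_singleton_iff.2 (mem_centralizer_iff.1 hx y hy)
  have hcen' : ∀ {x : G} {H : Subgroup G}, H ≤ centralizer ({x} : Set G) → x ∈ centralizer (H : Set G) :=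
    fun hx => mem_centralizer_iff.2 fun y hy => mem_centralizer_singleton_iff.1 (hx hy)
  set M := normalizer ((P : Subgroup G) : Set G) with hMdef
  have hPM : (P : Subgroup G) ≤ M := le_normalizer
  have hQM : (Q : Subgroup G) ≤ M := hNN ▸ le_normalizer
  have htM : t ∈ M := centralizer_le_normalizer _ htP
  -- the intersection of the two centralizers
  have hint : ∀ u : G, orderOf u = 2 → u ∈ centralizer ((P : Subgroup G) : Set G) →
      u ∈ centralizer ((Q : Subgroup G) : Set G) → t ∈ centralizer ((Q : Subgroup G) : Set G) := by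
    intro u hu hu3 hu5
    set I := centralizer ((P : Subgroup G) : Set G) ⊓ centralizer ((Q : Subgroup G) : Set G) with hI
    have hPI : (P : Subgroup G) ≤ I :=
      le_inf (sylow_le_centralizer (by rw [hG]; norm_num) (by rw [hG]; norm_num) P) hPQ
    have hQI : (Q : Subgroup G) ≤ I :=
      le_inf hQP (sylow_le_centralizer (by rw [hG]; norm_num) (by rw [hG]; norm_num) Q)
    have h3 : 3 ∣ Nat.card I := hP3 ▸ card_dvd_of_le hPI
    have h5 : 5 ∣ Nat.card I := hQ5 ▸ card_dvd_of_le hQI
    have h2 : 2 ∣ Nat.card I := hu ▸ Subgroup.orderOf_dvd_natCard I ⟨hu3, hu5⟩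
    have h30 : 30 ∣ Nat.card I :=
      Nat.Coprime.mul_dvd_of_dvd_of_dvd (by norm_num : Nat.Coprime 6 5)
        (Nat.Coprime.mul_dvd_of_dvd_of_dvd (by norm_num : Nat.Coprime 2 3) h2 h3) h5
    have hle : I ≤ centralizer ((P : Subgroup G) : Set G) := inf_le_left
    have heq := eq_of_le_of_card_ge hle (by rw [C3]; exact Nat.le_of_dvd Nat.card_pos h30)
    rw [← heq] at htP
    exact htP.2
  -- normalizers inside the centralizer of an involution
  have hrel : ∀ (p : ℕ) [Fact p.Prime] (R : Sylow p G) (H : Subgroup G) (hR : (R : Subgroup G) ≤ H),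
      Nat.card (Sylow p ↥H) * Nat.card ↥(normalizer ((R : Subgroup G) : Set G) ⊓ H : Subgroup G) = Nat.card H ∧
        Nat.card (Sylow p ↥H) % p = 1 := by
    intro p hp R H hR
    refine ⟨?_, ?_⟩
    · rw [(R.subtype hR).card_eq_index_normalizer]
      have e : normalizer (((R.subtype hR : Sylow p ↥H) : Subgroup ↥H) : Set ↥H) =
          (normalizer ((R : Subgroup G) : Set G) ⊓ H).subgroupOf H := by
        rw [inf_subgroupOf_right, Sylow.coe_subtype]
        exact (subgroupOf_normalizer_eq hR).symm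
      erw [e]
      rw [← Nat.card_congr (subgroupOfEquivOfLe (inf_le_right :
        normalizer ((R : Subgroup G) : Set G) ⊓ H ≤ H)).toEquiv]
      exact Subgroup.index_mul_card _
    · have h := card_sylow_modEq_one p ↥H
      rwa [Nat.ModEq, Nat.one_mod_eq_one.2 hp.out.ne_one] at h
  by_cases hsame : t ∈ centralizer ((Q : Subgroup G) : Set G)
  · exfalso
    have hPC : (P : Subgroup G) ≤ C := hC ▸ hcen htP
    have hQC : (Q : Subgroup G) ≤ C := hC ▸ hcen hsame
    have h60 : M ⊓ C = M := by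
      refine eq_of_le_of_card_ge inf_le_left ?_
      rw [N3]
      have h4 := four_dvd_inter hG P M N3 ht htM
      rw [← hC] at h4
      have h3 : 3 ∣ Nat.card ↥(M ⊓ C : Subgroup G) := hP3 ▸ card_dvd_of_le (le_inf hPM hPC)
      have h5 : 5 ∣ Nat.card ↥(M ⊓ C : Subgroup G) := hQ5 ▸ card_dvd_of_le (le_inf hQM hQC)
      exact Nat.le_of_dvd Nat.card_pos (Nat.Coprime.mul_dvd_of_dvd_of_dvd (by norm_num : Nat.Coprime 12 5)
        (Nat.Coprime.mul_dvd_of_dvd_of_dvd (by norm_num : Nat.Coprime 4 3) h4 h3) h5)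
    obtain ⟨e3, m3⟩ := hrel 3 P C hPC
    obtain ⟨e5, m5⟩ := hrel 5 Q C hQC
    rw [← hMdef, h60, N3] at e3
    rw [← hNN, h60, N3] at e5
    have hd : Nat.card C ∣ 175560 := hG ▸ C.card_subgroup_dvd_card
    have hall : ∀ n ∈ divList, n % 8 = 0 → n % 60 = 0 → n / 60 % 3 = 1 → n / 60 % 5 = 1 → n = 175560 := by
      decide +kernel
    have hn := hall _ (mem_divList hd) (Nat.mod_eq_zero_of_dvd h8) (by rw [← e3]; simp)
      (by rw [← e3]; simpa using m3) (by rw [← e5]; simpa using m5)
    have htop : C = ⊤ := eq_top_of_card_eq C (by rw [hn, hG])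
    have hz : t ∈ center G := mem_center_iff.2 fun g => by
      have : g ∈ C := htop ▸ mem_top g
      rw [hC, mem_centralizer_singleton_iff] at this
      exact this
    rw [center_eq_bot hG, mem_bot] at hz
    rw [hz, orderOf_one] at ht
    norm_num at ht
  refine ⟨t, T, ht, htT, hTC, ?_⟩
  rw [← hC]
  have hPC : (P : Subgroup G) ≤ C := hC ▸ hcen htP
  obtain ⟨e3, m3⟩ := hrel 3 P C hPC
  rw [← hMdef] at e3
  have h12 : Nat.card ↥(M ⊓ C : Subgroup G) = 12 := by
    have h4 := four_dvd_inter hG P M N3 ht htM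
    rw [← hC] at h4
    have h3 : 3 ∣ Nat.card ↥(M ⊓ C : Subgroup G) := hP3 ▸ card_dvd_of_le (le_inf hPM hPC)
    have hd : Nat.card ↥(M ⊓ C : Subgroup G) ∣ 60 := N3 ▸ card_dvd_of_le inf_le_left
    have h12' : 12 ∣ Nat.card ↥(M ⊓ C : Subgroup G) :=
      Nat.Coprime.mul_dvd_of_dvd_of_dvd (by norm_num : Nat.Coprime 4 3) h4 h3
    by_contra hne
    have h5 : 5 ∣ Nat.card ↥(M ⊓ C : Subgroup G) := by
      have key : ∀ d ≤ 60, d ∣ 60 → 12 ∣ d → d ≠ 12 → 5 ∣ d := by decide +kernel
      exact key _ (Nat.le_of_dvd (by norm_num) hd) hd h12' hne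
    have heq : M ⊓ C = M := eq_of_le_of_card_ge inf_le_left (by
      rw [N3]
      exact Nat.le_of_dvd Nat.card_pos
        (Nat.Coprime.mul_dvd_of_dvd_of_dvd (by norm_num : Nat.Coprime 12 5) h12' h5))
    exact hsame (hcen' ((hQM.trans (inf_eq_left.1 heq)).trans hC.le))
  rw [h12] at e3
  -- five
  have hfive : 5 ∣ Nat.card C → Nat.card (Sylow 5 ↥C) * 20 = Nat.card C ∧ Nat.card (Sylow 5 ↥C) % 5 = 1 := by
    intro h5
    obtain ⟨w, hw⟩ := exists_prime_orderOf_dvd_card' 5 h5
    obtain ⟨R, hR⟩ := IsPGroup.exists_le_sylow (G := G) (p := 5)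
      (IsPGroup.of_card (n := 1) (by rw [Nat.card_zpowers, orderOf_coe, hw, pow_one]) :
        IsPGroup 5 ↥(zpowers (w : G)))
    have hRw : (R : Subgroup G) = zpowers (w : G) :=
      (eq_of_le_of_card_ge hR (by
        rw [Nat.card_zpowers, orderOf_coe, hw, sylow_card_eq (by rw [hG]; norm_num) (by rw [hG]; norm_num) R])).symm
    have hRC : (R : Subgroup G) ≤ C := hRw ▸ zpowers_le.2 w.2
    obtain ⟨e5, m5⟩ := hrel 5 R C hRC
    refine ⟨?_, m5⟩
    suffices h20 : Nat.card ↥(normalizer ((R : Subgroup G) : Set G) ⊓ C : Subgroup G) = 20 by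
      rwa [h20] at e5
    obtain ⟨g, hg⟩ := MulAction.exists_smul_eq G R Q
    set u := g * t * g⁻¹ with hudef
    have hu : orderOf u = 2 :=
      (orderOf_injective (MulAut.conj g).toMonoidHom (MulAut.conj g).injective t).trans ht
    have hu5 : u ∈ centralizer ((Q : Subgroup G) : Set G) := by
      rw [← hg, centralizer_smul]
      exact ⟨t, hcen' (hC ▸ hRC), rfl⟩
    have himg : (normalizer ((R : Subgroup G) : Set G) ⊓ C).map (MulAut.conj g).toMonoidHom =
        M ⊓ centralizer ({u} : Set G) := by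
      rw [Subgroup.map_inf _ _ _ (MulAut.conj g).injective, hC]
      congr 1
      · rw [hNN, ← hg]
        ext x
        rw [mem_map_equiv]
        refine (Sylow.smul_eq_iff_mem_normalizer (P := R)).symm.trans
          (Iff.trans ?_ (Sylow.smul_eq_iff_mem_normalizer (P := g • R)))
        rw [MulAut.conj_symm_apply, mul_smul, mul_smul, inv_smul_eq_iff]
      · ext x
        rw [mem_map_equiv, mem_centralizer_singleton_iff, mem_centralizer_singleton_iff,
          MulAut.conj_symm_apply, hudef]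
        constructor <;> intro h
        · have := congrArg (fun a => g * a * g⁻¹) h
          simpa [mul_assoc] using this
        · have := congrArg (fun a => g⁻¹ * a * g) h
          simpa [mul_assoc] using this
    have huM : u ∈ M := hNN ▸ centralizer_le_normalizer _ hu5
    have hQu : (Q : Subgroup G) ≤ M ⊓ centralizer ({u} : Set G) := le_inf hQM (hcen hu5)
    rw [← card_map_of_injective (K := (normalizer ((R : Subgroup G) : Set G) ⊓ C))
      (f := (MulAut.conj g).toMonoidHom) (MulAut.conj g).injective, himg]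
    set d := Nat.card ↥(M ⊓ centralizer ({u} : Set G) : Subgroup G) with hd
    have h20 : 20 ∣ d := Nat.Coprime.mul_dvd_of_dvd_of_dvd (by norm_num : Nat.Coprime 4 5)
      (four_dvd_inter hG P M N3 hu huM) (hQ5 ▸ card_dvd_of_le hQu)
    have hd60 : d ∣ 60 := N3 ▸ card_dvd_of_le inf_le_left
    by_contra hne
    have hd' : d = 60 := by
      have key : ∀ e ≤ 60, e ∣ 60 → 20 ∣ e → e ≠ 20 → e = 60 := by decide +kernel
      exact key _ (Nat.le_of_dvd (by norm_num) hd60) hd60 h20 hne
    have hfull : M ⊓ centralizer ({u} : Set G) = M := eq_of_le_of_card_ge inf_le_left (by rw [N3, ← hd, hd'])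
    exact hsame (hint u hu (hcen' (hPM.trans (inf_eq_left.1 hfull))) hu5)
  have heleven : 11 ∣ Nat.card C → 5 ∣ Nat.card C := by
    intro h11
    haveI : Fact (Nat.Prime 11) := ⟨by norm_num⟩
    haveI : Fact (Nat.Prime 2) := ⟨Nat.prime_two⟩
    obtain ⟨w, hw⟩ := exists_prime_orderOf_dvd_card' 11 h11
    obtain ⟨R, hR⟩ := IsPGroup.exists_le_sylow (G := G) (p := 11)
      (IsPGroup.of_card (n := 1) (by rw [Nat.card_zpowers, orderOf_coe, hw, pow_one]) :
        IsPGroup 11 ↥(zpowers (w : G)))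
    have h1 : 11 ∣ Nat.card G := by rw [hG]; norm_num
    have h2 : ¬ 11 * 11 ∣ Nat.card G := by rw [hG]; norm_num
    have hRw : (R : Subgroup G) = zpowers (w : G) :=
      (eq_of_le_of_card_ge hR (by rw [Nat.card_zpowers, orderOf_coe, hw, sylow_card_eq h1 h2 R])).symm
    have htR : t ∈ centralizer ((R : Subgroup G) : Set G) := hcen' (hC ▸ hRw ▸ zpowers_le.2 w.2)
    set CR := centralizer ((R : Subgroup G) : Set G) with hCR
    obtain ⟨hc22, hn110⟩ := (facts hG).2.2 Q R C5
      (ht ▸ Subgroup.orderOf_dvd_natCard CR htR)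
    have hRCR : (R : Subgroup G) ≤ CR := sylow_le_centralizer h1 h2 R
    have hidx : ((R : Subgroup G).subgroupOf CR).index = 2 := by
      have h := ((R : Subgroup G).subgroupOf CR).index_mul_card
      rw [Nat.card_congr (subgroupOfEquivOfLe hRCR).toEquiv, sylow_card_eq h1 h2 R, hc22] at h
      omega
    have hno : ∀ v : G, v ∈ CR → orderOf v = 2 → v ∉ (R : Subgroup G) := by
      intro v _ hv hvR
      have := Subgroup.orderOf_dvd_natCard (R : Subgroup G) hvR
      rw [hv, sylow_card_eq h1 h2 R] at this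
      norm_num at this
    have huniq : ∀ v : G, v ∈ CR → orderOf v = 2 → v = t := by
      intro v hv hv2
      have hmem : (⟨v, hv⟩ : ↥CR) * ⟨t, htR⟩ ∈ (R : Subgroup G).subgroupOf CR :=
        (Subgroup.mul_mem_iff_of_index_two hidx).2 (by
          simp only [mem_subgroupOf, hno v hv hv2, hno t htR ht])
      rw [mem_subgroupOf, Subgroup.coe_mul] at hmem
      have hcomm : (v * t) * t = t * (v * t) := mem_centralizer_iff.1 htR _ hmem
      have hv' : v * v = 1 := by rw [← pow_two, ← hv2]; exact pow_orderOf_eq_one v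
      have ht' : t * t = 1 := by rw [← pow_two, ← ht]; exact pow_orderOf_eq_one t
      have hvt : v * t = t * v := by
        have e := congrArg (fun a => a * t) hcomm
        simp only [mul_assoc, ht', mul_one] at e
        exact e
      have hsq : (v * t) ^ 2 = 1 := by
        rw [pow_two]
        calc v * t * (v * t) = v * (t * v) * t := by group
          _ = v * v * (t * t) := by rw [← hvt]; group
          _ = 1 := by rw [hv', ht', one_mul]
      have h1' : v * t = 1 := by
        have hd := orderOf_dvd_of_pow_eq_one hsq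
        have hd' := Subgroup.orderOf_dvd_natCard (R : Subgroup G) hmem
        rw [sylow_card_eq h1 h2 R] at hd'
        exact orderOf_eq_one_iff.1 (Nat.eq_one_of_dvd_coprimes (by norm_num : Nat.Coprime 2 11) hd hd')
      rw [mul_eq_one_iff_eq_inv] at h1'
      rw [h1']
      exact inv_eq_of_mul_eq_one_right ht'
    have hNC : normalizer ((R : Subgroup G) : Set G) ≤ C := by
      intro g hg
      rw [hC, mem_centralizer_singleton_iff]
      have hmem : g * t * g⁻¹ ∈ CR := by
        rw [hCR, ← Sylow.smul_eq_iff_mem_normalizer.2 hg, centralizer_smul]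
        exact ⟨t, htR, rfl⟩
      have := huniq _ hmem ((orderOf_injective (MulAut.conj g).toMonoidHom (MulAut.conj g).injective t).trans ht)
      exact mul_inv_eq_iff_eq_mul.1 this
    exact (show 5 ∣ 110 by norm_num).trans (hn110 ▸ card_dvd_of_le hNC)
  have hd : Nat.card C ∣ 175560 := hG ▸ C.card_subgroup_dvd_card
  have hall : ∀ n ∈ divList, n % 8 = 0 → n % 12 = 0 → n / 12 % 3 = 1 →
      (n % 5 = 0 → n / 20 % 5 = 1) → (n % 11 = 0 → n % 5 = 0) → n = 120 := by
    decide +kernel
  have h120 := hall _ (mem_divList hd) (Nat.mod_eq_zero_of_dvd h8) (by rw [← e3]; simp)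
    (by rw [← e3]; simpa using m3)
    (fun h => by
      obtain ⟨e5, m5⟩ := hfive (Nat.dvd_of_mod_eq_zero h)
      rw [← e5]; simpa using m5)
    (fun h => Nat.mod_eq_zero_of_dvd (heleven (Nat.dvd_of_mod_eq_zero h)))
  refine ⟨h120, ?_⟩
  obtain ⟨e5, -⟩ := hfive (by rw [h120]; norm_num)
  omega

end simple

/-- A simple group of order `175560` has an involution centralizer of shape `2 × A₅`. -/
theorem exists_janko_centralizer [IsSimpleGroup G] (hG : Nat.card G = 175560) :
    ∃ t : G, Cfsg.IsTwoCentralInvolution t ∧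
      Nonempty (centralizer ({t} : Set G) ≃* Multiplicative (ZMod 2) × alternatingGroup (Fin 5)) := by
  classical
  haveI : Fact (Nat.Prime 2) := ⟨Nat.prime_two⟩
  haveI : Fact (Nat.Prime 3) := ⟨Nat.prime_three⟩
  haveI : Fact (Nat.Prime 5) := ⟨Nat.prime_five⟩
  obtain ⟨t, T, ht, htT, hTC, hC120, hn5⟩ := exists_centralizer hG
  refine ⟨t, ⟨ht, T, htT, fun x hx => mem_centralizer_singleton_iff.1 (hTC hx)⟩, ?_⟩
  obtain ⟨P⟩ : Nonempty (Sylow 3 G) := inferInstance
  have hab := (exists_involution_cases hG P).1 T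
  obtain ⟨C, hC⟩ : ∃ C : Subgroup G, C = centralizer ({t} : Set G) := ⟨_, rfl⟩
  rw [← hC] at hC120 hn5 hTC ⊢
  let tC : ↥C := ⟨t, hTC htT⟩
  have htc : ∀ x : ↥C, x * tC = tC * x := fun x =>
    Subtype.ext (mem_centralizer_singleton_iff.1 (hC ▸ x.2))
  let Z : Subgroup ↥C := zpowers tC
  have hZ2 : Nat.card Z = 2 := by rw [Nat.card_zpowers, Subgroup.orderOf_mk, ht]
  haveI : Z.Normal := ⟨fun a ha x => by
    obtain ⟨i, rfl⟩ := mem_zpowers_iff.1 ha
    rw [((show Commute x tC from htc x).zpow_right i).eq, mul_inv_cancel_right]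
    exact zpow_mem (mem_zpowers _) i⟩
  have hQ60 : Nat.card (↥C ⧸ Z) = 60 := by
    have h := Z.card_eq_card_quotient_mul_card_subgroup
    rw [hC120, hZ2] at h
    omega
  haveI : IsSimpleGroup (↥C ⧸ Z) := by
    refine Cfsg.Agent.S3669.simple_of_sixty hQ60 fun R hR => ?_
    have hR5 : Nat.card ↥(R : Subgroup (↥C ⧸ Z)) = 5 := by
      have := Cfsg.Lib.Small.card_sylow (p := 5) 1 12 (by rw [hQ60]; norm_num) (by norm_num) R
      simpa using this
    haveI := hR
    have hidx : ((R : Subgroup (↥C ⧸ Z)).comap (QuotientGroup.mk' Z)).index = 12 := by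
      rw [index_comap_of_surjective _ (QuotientGroup.mk'_surjective Z)]
      have h := (R : Subgroup (↥C ⧸ Z)).index_mul_card
      rw [hR5, hQ60] at h
      omega
    set W := (R : Subgroup (↥C ⧸ Z)).comap (QuotientGroup.mk' Z) with hW
    have hW10 : Nat.card W = 10 := by
      have h := W.index_mul_card
      rw [hidx, hC120] at h
      omega
    have hle : ∀ S : Sylow 5 ↥C, (S : Subgroup ↥C) ≤ W := by
      intro S x hx
      have h12 : x ^ W.index ∈ W := pow_index_mem W x
      rw [hidx] at h12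
      have hx5 : x ^ 5 = 1 := by
        have h := Cfsg.Lib.Small.card_sylow (G := ↥C) (p := 5) 1 24 (by rw [hC120]; norm_num) (by norm_num) S
        have hd := Subgroup.orderOf_dvd_natCard (S : Subgroup ↥C) hx
        rw [h] at hd
        simpa using orderOf_dvd_iff_pow_eq_one.1 hd
      have : x = (x ^ 12) ^ 3 := by
        rw [← pow_mul, show 12 * 3 = 5 * 7 + 1 by norm_num, pow_succ, pow_mul, hx5, one_pow, one_mul]
      rw [this]
      exact pow_mem h12 3
    haveI : Subsingleton (Sylow 5 ↥W) := by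
      refine (Nat.card_eq_one_iff_unique.1 ?_).1
      obtain ⟨S⟩ : Nonempty (Sylow 5 ↥W) := inferInstance
      have h1 := S.card_dvd_index
      have h2 := (S : Subgroup ↥W).index_mul_card
      rw [Cfsg.Lib.Small.card_sylow (G := ↥W) (p := 5) 1 2 (by rw [hW10]; norm_num) (by norm_num) S, hW10] at h2
      have h3 := card_sylow_modEq_one 5 ↥W
      rw [Nat.ModEq] at h3
      have h4 : (S : Subgroup ↥W).index = 2 := by omega
      rw [h4] at h1
      have := Nat.le_of_dvd (by norm_num) h1
      omega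
    have : Subsingleton (Sylow 5 ↥C) := ⟨fun A B => Sylow.subtype_injective (hP := hle A) (hQ := hle B)
      (Subsingleton.elim _ _)⟩
    have h := Finite.card_le_one_iff_subsingleton.2 this
    omega
  obtain ⟨e5⟩ := Cfsg.Agent.S0494.result hQ60
  -- the derived subgroup is a complement
  let D : Subgroup ↥C := _root_.commutator ↥C
  haveI hDn : D.Normal := inferInstance
  have hperf : _root_.commutator (↥C ⧸ Z) = ⊤ := by
    haveI := Fintype.ofFinite (↥C ⧸ Z)
    exact Cfsg.Lib.Small.commutator_eq_top (Cfsg.Lib.Small.not_isCyclic_of_card (by rw [hQ60]; norm_num))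
  have hmap : D.map (QuotientGroup.mk' Z) = ⊤ := by
    rw [← hperf]
    simp only [D, _root_.commutator_def, Subgroup.map_commutator,
      Subgroup.map_top_of_surjective _ (QuotientGroup.mk'_surjective Z)]
  have htD : tC ∉ D := by
    intro htD
    have htop : D = ⊤ := by
      rw [eq_top_iff]
      intro x _
      obtain ⟨d, hd, e⟩ := (hmap ▸ mem_top (QuotientGroup.mk' Z x) : QuotientGroup.mk' Z x ∈ D.map _)
      have hz : d⁻¹ * x ∈ Z := QuotientGroup.eq.1 e
      have := mul_mem hd ((zpowers_le.2 htD) hz)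
      simpa using this
    let T' : Sylow 2 ↥C := T.subtype hTC
    set A := (T' : Subgroup ↥C) with hA
    have hmemA : ∀ a : ↥C, a ∈ A ↔ (a : G) ∈ (T : Subgroup G) := fun a => by
      rw [hA, Sylow.coe_subtype, mem_subgroupOf]
    letI : CommGroup ↥A := { (inferInstance : Group ↥A) with
      mul_comm := fun a b => Subtype.ext (Subtype.ext
        (hab _ ((hmemA _).1 a.2) _ ((hmemA _).1 b.2))) }
    have key : ∀ (k : ℕ) (g₀ : ↥C), g₀⁻¹ * tC ^ k * g₀ ∈ A → g₀⁻¹ * tC ^ k * g₀ = tC ^ k := fun k g₀ _ => by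
      rw [mul_assoc, ← ((show Commute g₀ tC from htc g₀).pow_right k).eq, inv_mul_cancel_left]
    have h := MonoidHom.transfer_eq_pow (MonoidHom.id ↥A) tC key
    have htriv : MonoidHom.transfer (MonoidHom.id ↥A) tC = 1 :=
      MonoidHom.mem_ker.1 (Abelianization.commutator_subset_ker _ ((show _root_.commutator ↥C = ⊤ from htop) ▸ mem_top tC : tC ∈ _root_.commutator ↥C))
    rw [htriv] at h
    have h15 : A.index = 15 := by
      have h := A.index_mul_card
      rw [hA, Sylow.coe_subtype, Nat.card_congr (subgroupOfEquivOfLe hTC).toEquiv, card_sylow_two hG T,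
        hC120] at h
      rw [hA, Sylow.coe_subtype]
      omega
    have h' : tC ^ A.index = 1 := (congrArg Subtype.val h).symm
    rw [h15] at h'
    have hd := orderOf_dvd_of_pow_eq_one h'
    rw [Subgroup.orderOf_mk, ht] at hd
    norm_num at hd
  -- the product decomposition
  let f : ↥D →* ↥C ⧸ Z := (QuotientGroup.mk' Z).comp D.subtype
  have hf : Function.Bijective f := by
    constructor
    · rw [injective_iff_map_eq_one]
      intro d hd
      have hdZ : (d : ↥C) ∈ zpowers tC := (QuotientGroup.eq_one_iff _).1 hd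
      obtain ⟨k, hk⟩ := mem_zpowers_iff_mem_range_orderOf.1 hdZ |> Finset.mem_image.1
      rw [Subgroup.orderOf_mk, ht, Finset.mem_range] at hk
      obtain ⟨hk, e⟩ := hk
      interval_cases k
      · exact Subtype.ext (by simpa using e.symm)
      · rw [pow_one] at e
        exact absurd (by rw [e]; exact d.2 : tC ∈ D) htD
    · intro y
      obtain ⟨d, hd, e⟩ := (hmap ▸ mem_top y : y ∈ D.map (QuotientGroup.mk' Z))
      exact ⟨⟨d, hd⟩, e⟩
  let eD : ↥D ≃* alternatingGroup (Fin 5) := (MulEquiv.ofBijective f hf).trans e5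
  let m : ↥Z × ↥D →* ↥C :=
    { toFun := fun x => (x.1 : ↥C) * (x.2 : ↥C)
      map_one' := by simp
      map_mul' := fun x y => by
        obtain ⟨i, hi⟩ := mem_zpowers_iff.1 y.1.2
        have hc : (y.1 : ↥C) * (x.2 : ↥C) = (x.2 : ↥C) * (y.1 : ↥C) := by
          rw [← hi]
          exact (((show Commute (x.2 : ↥C) tC from htc _).zpow_right i).eq).symm
        simp only [Prod.fst_mul, Prod.snd_mul, Subgroup.coe_mul]
        rw [mul_assoc (x.1 : ↥C), ← mul_assoc (y.1 : ↥C), hc]
        group }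
  have hm : Function.Bijective m := by
    refine (Nat.bijective_iff_injective_and_card m).2 ⟨?_, ?_⟩
    · rw [injective_iff_map_eq_one]
      rintro ⟨z, d⟩ h
      have hz : f d = 1 := (QuotientGroup.eq_one_iff _).2 (by
        have h' : (d : ↥C) = (z : ↥C)⁻¹ := eq_inv_of_mul_eq_one_right h
        show (d : ↥C) ∈ Z
        rw [h']
        exact inv_mem z.2)
      have hd : d = 1 := hf.1 (hz.trans f.map_one.symm)
      subst hd
      have : (z : ↥C) = 1 := by simpa [m] using h
      exact Prod.ext (Subtype.ext this) rfl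
    · rw [Nat.card_prod, hZ2, Nat.card_congr eD.toEquiv, hC120, nat_card_alternatingGroup]
      simp [Nat.factorial]
  exact ⟨((MulEquiv.ofBijective m hm).symm).trans
    ((mulEquivOfPrimeCardEq hZ2 (by simp)).prodCongr eD)⟩

end Cfsg.Lib.Order175560
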