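import Mathlib

/-!
Numerical exclusion table for simple groups whose order properly divides `175560`.

A record `(p, s, e, c)` stands for a prime `p` dividing the order `n` exactly once, the number `s`
of Sylow `p`-subgroups, the order `e` of `N(P)/C(P)` and the index `c` of `P` in `C(P)`.
-/

set_option autoImplicit false

namespace Cfsg.Lib.Order175560

/-- A local record at one prime. -/
structure LocalRec where
  p : ℕ
  s : ℕ
  e : ℕ
  c : ℕ

/-- The divisors of `175560`. -/
def divList : List ℕ :=
  [1, 2, 4, 8].flatMap fun a => [1, 3].flatMap fun b => [1, 5].flatMap fun c =>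
    [1, 7].flatMap fun d => [1, 11].flatMap fun e => [1, 19].map fun f => a * b * c * d * e * f

/-- The primes dividing `n` exactly once. -/
def psOf (n : ℕ) : List ℕ :=
  [19, 11, 7, 5, 3, 2].filter fun p => n % p == 0 && n % (p * p) != 0

/-- Admissible records at `p`. -/
def cands (n p : ℕ) : List LocalRec :=
  divList.flatMap fun s =>
    if decide (1 < s) && s % p == 1 && (n / p) % s == 0 then
      (divList.filter fun e => decide (1 < e) && (p - 1) % e == 0 && (n / p / s) % e == 0 &&
        (!(p == 19 && s == 20) || (n / p / s / e == 1 && e % 2 == 1))).map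
          fun e => ⟨p, s, e, n / p / s / e⟩
    else []

/-- Compatibility of two records, by counting commuting pairs of subgroups of the two prime orders. -/
def pairOK (t u : LocalRec) : Bool :=
  t.c % u.p != 0 || (u.c % t.p == 0 && divList.any fun a =>
    (t.p * t.c / u.p) % a == 0 && a % u.p == 1 && divList.any fun b =>
      (u.p * u.c / t.p) % b == 0 && b % t.p == 1 && t.s * a == u.s * b)

/-- A lower bound for the number of elements whose largest listed prime divisor of the order is `t.p`. -/
def weight (l : List LocalRec) (t : LocalRec) : ℕ :=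
  t.s * (t.p - 1) * (if l.all fun u => decide (u.p ≤ t.p) || t.c % u.p != 0 then t.c else 1)

/-- The search: `true` when every compatible choice of records needs more than `n` elements. -/
def go (n : ℕ) : List ℕ → List LocalRec → Bool
  | [], cur => decide (n < 1 + (cur.map (weight cur)).sum)
  | p :: r, cur => ((cands n p).filter fun t => cur.all fun u => pairOK t u && pairOK u t).all
      fun t => go n r (t :: cur)

theorem table : divList.all
    (fun n => n % 19 != 0 || n == 19 || n == 175560 || go n (psOf n) []) = true := by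
  decide +kernel

theorem mem_divList {d : ℕ} (h : d ∣ 175560) : d ∈ divList := by
  have e : (175560 : ℕ) = 8 * 3 * 5 * 7 * 11 * 19 := by norm_num
  rw [e] at h
  obtain ⟨x1, f, h1, hf, rfl⟩ := Nat.dvd_mul.1 h
  obtain ⟨x2, e', h2, he', rfl⟩ := Nat.dvd_mul.1 h1
  obtain ⟨x3, d', h3, hd', rfl⟩ := Nat.dvd_mul.1 h2
  obtain ⟨x4, c, h4, hc, rfl⟩ := Nat.dvd_mul.1 h3
  obtain ⟨a, b, ha, hb, rfl⟩ := Nat.dvd_mul.1 h4
  have k : ∀ q : ℕ, q.Prime → ∀ y, y ∣ q → y ∈ [1, q] := fun q hq y hy => by
    rcases hq.eq_one_or_self_of_dvd y hy with rfl | rfl <;> simp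
  have ha' : a ∈ [1, 2, 4, 8] := by
    have h8 : ∀ y ≤ 8, y ∣ 8 → y ∈ [1, 2, 4, 8] := by decide
    exact h8 a (Nat.le_of_dvd (by norm_num) ha) ha
  simp only [divList, List.mem_flatMap, List.mem_map]
  exact ⟨a, ha', b, k 3 (by norm_num) b hb, c, k 5 (by norm_num) c hc, d', k 7 (by norm_num) d' hd',
    e', k 11 (by norm_num) e' he', f, k 19 (by norm_num) f hf, rfl⟩

theorem go_sound {n : ℕ} : ∀ (ps : List ℕ) (cur : List LocalRec) (f : ℕ → LocalRec),
    go n ps cur = true → (∀ p ∈ ps, f p ∈ cands n p) →
    (∀ t ∈ ps.map f ++ cur, ∀ u ∈ ps.map f ++ cur, pairOK t u = true) →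
    n < 1 + ((ps.reverse.map f ++ cur).map (weight (ps.reverse.map f ++ cur))).sum
  | [], cur, f, hg, _, _ => by simpa [go] using hg
  | p :: r, cur, f, hg, hc, hp => by
    have h1 : f p ∈ (cands n p).filter fun t => cur.all fun u => pairOK t u && pairOK u t := by
      refine List.mem_filter.2 ⟨hc p (by simp), List.all_eq_true.2 fun u hu => ?_⟩
      rw [hp (f p) (by simp) u (by simp [hu]), hp u (by simp [hu]) (f p) (by simp)]
      rfl
    rw [go, List.all_eq_true] at hg
    have h2 := go_sound r (f p :: cur) f (hg _ h1) (fun q hq => hc q (by simp [hq]))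
      (fun t ht u hu =>
        hp t (by simp at ht ⊢; aesop) u (by simp at hu ⊢; aesop))
    simpa [List.reverse_cons, List.append_assoc] using h2

end Cfsg.Lib.Order175560
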