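import Mathlib
import Cfsg.Agent.Lib.Order175560.Table

/-!
Local data at primes dividing the order of a finite simple group exactly once.
-/

set_option autoImplicit false

open Subgroup

namespace Cfsg.Lib.Order175560

variable {G : Type*} [Group G] [Finite G] {p q : ℕ} [Fact p.Prime] [Fact q.Prime]

theorem sylow_card_eq (h1 : p ∣ Nat.card G) (h2 : ¬ p * p ∣ Nat.card G) (P : Sylow p G) :
    Nat.card ↥(P : Subgroup G) = p := by
  have hn : Nat.card G ≠ 0 := Nat.card_pos.ne'
  have hp : p.Prime := Fact.out
  rw [P.card_eq_multiplicity]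
  have a : 1 ≤ (Nat.card G).factorization p :=
    (hp.dvd_iff_one_le_factorization hn).1 h1
  have b : ¬ 2 ≤ (Nat.card G).factorization p := fun h => h2 (by
    rw [← sq]; exact (hp.pow_dvd_iff_le_factorization hn).2 h)
  rw [show (Nat.card G).factorization p = 1 by omega, pow_one]

theorem sylow_le_centralizer (h1 : p ∣ Nat.card G) (h2 : ¬ p * p ∣ Nat.card G) (P : Sylow p G) :
    (P : Subgroup G) ≤ centralizer ((P : Subgroup G) : Set G) := by
  haveI := isCyclic_of_prime_card (sylow_card_eq h1 h2 P)
  letI := IsCyclic.commGroup (α := ↥(P : Subgroup G))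
  intro x hx
  rw [mem_centralizer_iff]
  intro y hy
  exact congrArg Subtype.val (mul_comm (⟨y, hy⟩ : ↥(P : Subgroup G)) ⟨x, hx⟩)

/-- An element of `C(P)` of order divisible by `p` has a power generating `P`. -/
theorem eq_zpowers (h1 : p ∣ Nat.card G) (h2 : ¬ p * p ∣ Nat.card G) (P : Sylow p G) {x : G}
    (hx : x ∈ centralizer ((P : Subgroup G) : Set G)) (hd : p ∣ orderOf x) :
    (P : Subgroup G) = zpowers (x ^ (orderOf x / p)) := by
  set y := x ^ (orderOf x / p) with hy
  have hp : p.Prime := Fact.out
  have hyo : orderOf y = p := by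
    rw [hy, orderOf_pow_orderOf_div (orderOf_pos x).ne' hd]
  have hyc : y ∈ centralizer ((P : Subgroup G) : Set G) := pow_mem hx _
  have hle : zpowers y ≤ normalizer ((P : Subgroup G) : Set G) :=
    zpowers_le.2 (centralizer_le_normalizer _ hyc)
  have hY : IsPGroup p ↥(zpowers y) := IsPGroup.of_card (n := 1) (by
    rw [Nat.card_zpowers, hyo, pow_one])
  have hs := hY.to_sup_of_normal_right' P.2 hle
  have hmax := P.3 hs le_sup_right
  have hyP : zpowers y ≤ (P : Subgroup G) := hmax ▸ le_sup_left
  refine (Subgroup.eq_of_le_of_card_ge hyP ?_).symm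
  rw [Nat.card_zpowers, hyo, sylow_card_eq h1 h2 P]

/-- Number of Sylow `q`-subgroups inside the centralizer of `P`. -/
noncomputable def innerCount (P : Sylow p G) (q : ℕ) : ℕ :=
  Nat.card {Q : Sylow q G // (Q : Subgroup G) ≤ centralizer ((P : Subgroup G) : Set G)}

theorem smul_le_centralizer (g : G) (P : Sylow p G) (Q : Sylow q G)
    (h : (Q : Subgroup G) ≤ centralizer ((P : Subgroup G) : Set G)) :
    ((g • Q : Sylow q G) : Subgroup G) ≤
      centralizer (((g • P : Sylow p G) : Subgroup G) : Set G) := by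
  intro x hx
  rw [Sylow.coe_subgroup_smul, Subgroup.mem_pointwise_smul_iff_inv_smul_mem] at hx
  rw [mem_centralizer_iff]
  intro y hy
  rw [SetLike.mem_coe, Sylow.coe_subgroup_smul, Subgroup.mem_pointwise_smul_iff_inv_smul_mem] at hy
  have := mem_centralizer_iff.1 (h hx) _ hy
  simp only [MulAut.smul_def, map_inv, MulAut.conj_inv_apply] at this
  have e := congrArg (fun t => g * t * g⁻¹) this
  simpa [mul_assoc] using e

theorem innerCount_eq (P P' : Sylow p G) : innerCount P q = innerCount P' q := by
  obtain ⟨g, rfl⟩ := MulAction.exists_smul_eq G P P'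
  refine Nat.card_congr
    { toFun := fun Q => ⟨g • Q.1, smul_le_centralizer g P Q.1 Q.2⟩
      invFun := fun Q => ⟨g⁻¹ • Q.1, by
        simpa using smul_le_centralizer g⁻¹ (g • P) Q.1 Q.2⟩
      left_inv := fun Q => Subtype.ext (inv_smul_smul g Q.1)
      right_inv := fun Q => Subtype.ext (smul_inv_smul g Q.1) }

/-- Double counting of commuting pairs. -/
theorem innerCount_mul (P : Sylow p G) (Q : Sylow q G) :
    Nat.card (Sylow p G) * innerCount P q = Nat.card (Sylow q G) * innerCount Q p := by
  classical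
  haveI := Fintype.ofFinite (Sylow p G)
  haveI := Fintype.ofFinite (Sylow q G)
  let r : Sylow p G → Sylow q G → Prop := fun A B =>
    (B : Subgroup G) ≤ centralizer ((A : Subgroup G) : Set G)
  have h := Finset.sum_card_bipartiteAbove_eq_sum_card_bipartiteBelow
    (s := (Finset.univ : Finset (Sylow p G))) (t := (Finset.univ : Finset (Sylow q G))) r
  have hA : ∀ A : Sylow p G, (Finset.univ.bipartiteAbove r A).card = innerCount P q := fun A => by
    rw [innerCount_eq P A, innerCount, Nat.card_eq_fintype_card, Fintype.card_subtype]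
    rfl
  have hB : ∀ B : Sylow q G, (Finset.univ.bipartiteBelow r B).card = innerCount Q p := fun B => by
    rw [innerCount_eq Q B, innerCount, Nat.card_eq_fintype_card, Fintype.card_subtype]
    refine congrArg Finset.card (Finset.filter_congr fun A _ => ?_)
    exact Subgroup.le_centralizer_iff
  simpa [hA, hB, Nat.card_eq_fintype_card, Finset.sum_const] using h

theorem innerCount_mod (h1 : q ∣ Nat.card G) (h2 : ¬ q * q ∣ Nat.card G) (P : Sylow p G)
    (hd : q ∣ Nat.card ↥(centralizer ((P : Subgroup G) : Set G))) :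
    innerCount P q % q = 1 ∧
      innerCount P q ∣ Nat.card ↥(centralizer ((P : Subgroup G) : Set G)) / q := by
  set C := centralizer ((P : Subgroup G) : Set G) with hC
  have hq : q.Prime := Fact.out
  have h2' : ¬ q * q ∣ Nat.card ↥C := fun h => h2 (h.trans C.card_subgroup_dvd_card)
  have e : innerCount P q = Nat.card (Sylow q ↥C) := by
    refine Nat.card_congr (Equiv.ofBijective (fun Q => Q.1.subtype Q.2) ⟨?_, ?_⟩)
    · intro a b h
      exact Subtype.ext (Sylow.subtype_injective h)
    · intro R
      have hR : Nat.card ↥((R : Subgroup ↥C).map C.subtype) =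
          q ^ (Nat.card G).factorization q := by
        rw [card_map_of_injective C.subtype_injective, sylow_card_eq hd h2' R]
        obtain ⟨Q⟩ : Nonempty (Sylow q G) := inferInstance
        rw [← Q.card_eq_multiplicity, sylow_card_eq h1 h2 Q]
      refine ⟨⟨Sylow.ofCard _ hR, ?_⟩, ?_⟩
      · rw [Sylow.coe_ofCard]; exact map_subtype_le _
      · refine Sylow.ext ?_
        rw [Sylow.coe_subtype, Sylow.coe_ofCard]
        exact comap_map_eq_self_of_injective C.subtype_injective _
  obtain ⟨R⟩ : Nonempty (Sylow q ↥C) := inferInstance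
  refine ⟨?_, ?_⟩
  · rw [e]
    have := card_sylow_modEq_one q ↥C
    rw [Nat.ModEq, Nat.one_mod_eq_one.2 hq.ne_one] at this
    exact this
  · rw [e]
    have := R.card_dvd_index
    have hi : (R : Subgroup ↥C).index = Nat.card ↥C / q := by
      rw [← (R : Subgroup ↥C).card_mul_index, sylow_card_eq hd h2' R, Nat.mul_div_cancel_left _ hq.pos]
    rwa [hi] at this

/-- `N(P)/C(P)` in a simple group. -/
theorem relIndex_centralizer [IsSimpleGroup G] (h1 : p ∣ Nat.card G) (h2 : ¬ p * p ∣ Nat.card G)
    (h3 : Nat.card G ≠ p) (P : Sylow p G) :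
    (centralizer ((P : Subgroup G) : Set G)).relIndex
        (normalizer ((P : Subgroup G) : Set G)) ∣ p - 1 ∧
      1 < (centralizer ((P : Subgroup G) : Set G)).relIndex
        (normalizer ((P : Subgroup G) : Set G)) ∧
      Nat.card (Sylow p G) ≠ 1 := by
  have hp : p.Prime := Fact.out
  have hP := sylow_card_eq h1 h2 P
  have hnn : ¬ (P : Subgroup G).Normal := by
    intro hn
    rcases hn.eq_bot_or_eq_top with h | h <;> rw [h] at hP
    · rw [Subgroup.card_bot] at hP; exact hp.ne_one hP.symm
    · rw [Subgroup.card_top] at hP; exact h3 hP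
  refine ⟨?_, ?_, ?_⟩
  · have h := (P : Subgroup G).normalizerMonoidHom_ker
    rw [relIndex, ← h, index_ker]
    haveI := isCyclic_of_prime_card hP
    refine (Subgroup.card_subgroup_dvd_card _).trans ?_
    rw [IsCyclic.card_mulAut, hP, Nat.totient_prime hp]
  · by_contra hlt
    have hne : (centralizer ((P : Subgroup G) : Set G)).relIndex
        (normalizer ((P : Subgroup G) : Set G)) ≠ 0 :=
      (centralizer ((P : Subgroup G) : Set G)).subgroupOf _ |>.index_ne_zero_of_finite
    have hle : normalizer ((P : Subgroup G) : Set G) ≤ centralizer ((P : Subgroup G) : Set G) :=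
      relIndex_eq_one.1 (by omega)
    have hc := MonoidHom.ker_transferSylow_isComplement' P hle
    rcases (MonoidHom.normal_ker (MonoidHom.transferSylow P hle)).eq_bot_or_eq_top with h | h
    · rw [h] at hc
      rw [isComplement'_bot_left] at hc
      exact hnn (hc ▸ inferInstance)
    · rw [h] at hc
      rw [isComplement'_top_left] at hc
      rw [hc, Subgroup.card_bot] at hP
      exact hp.ne_one hP.symm
  · intro h
    rw [P.card_eq_index_normalizer, index_eq_one] at h
    exact hnn (normalizer_eq_top_iff.1 h)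

/-- Many elements of `C(P)` have order divisible by `p`. -/
theorem le_card_singular (h1 : p ∣ Nat.card G) (h2 : ¬ p * p ∣ Nat.card G) (P : Sylow p G) {c : ℕ}
    (hc : Nat.card ↥(centralizer ((P : Subgroup G) : Set G)) = p * c) :
    (p - 1) * c ≤ Nat.card {x : G // x ∈ centralizer ((P : Subgroup G) : Set G) ∧ p ∣ orderOf x} := by
  classical
  set C := centralizer ((P : Subgroup G) : Set G) with hC
  haveI := Fintype.ofFinite G
  have hp : p.Prime := Fact.out
  have hPle := sylow_le_centralizer h1 h2 P
  let A := {x : G // x ∈ C ∧ ¬ p ∣ orderOf x}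
  have hA : Nat.card A * p ≤ p * c := by
    rw [← hc]
    conv_lhs => rw [← sylow_card_eq h1 h2 P, ← Nat.card_prod]
    refine Nat.card_le_card_of_injective
      (fun a => (⟨a.1.1 * (a.2 : G), mul_mem a.1.2.1 (hPle a.2.2)⟩ : ↥C)) ?_
    rintro ⟨⟨k, hk, hkp⟩, u⟩ ⟨⟨k', hk', hkp'⟩, u'⟩ h
    have h' : k * (u : G) = k' * (u' : G) := congrArg Subtype.val h
    set m := orderOf k * orderOf k' with hm
    have hcu : ∀ {a : G} (_ : a ∈ C) (w : ↥(P : Subgroup G)), Commute a (w : G) := fun ha w =>
      ((mem_centralizer_iff.1 ha) _ w.2).symm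
    have e : (u : G) ^ m = (u' : G) ^ m := by
      have := congrArg (· ^ m) h'
      simp only [(hcu hk u).mul_pow, (hcu hk' u').mul_pow] at this
      rwa [hm, pow_mul k, pow_orderOf_eq_one, one_pow, one_mul, mul_comm (orderOf k) (orderOf k'),
        pow_mul k', pow_orderOf_eq_one, one_pow, one_mul, mul_comm (orderOf k') (orderOf k)] at this
    have hcop : (Nat.card ↥(P : Subgroup G)).Coprime m := by
      rw [sylow_card_eq h1 h2 P, hp.coprime_iff_not_dvd]
      exact fun hd => (hp.dvd_mul.1 hd).elim hkp hkp'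
    have hu : u = u' := (powCoprime hcop).injective (Subtype.ext (by simpa using e))
    subst hu
    exact Prod.ext (Subtype.ext (mul_right_cancel h')) rfl
  have hsum : Nat.card A + Nat.card {x : G // x ∈ C ∧ p ∣ orderOf x} = p * c := by
    rw [← hc, Nat.card_eq_fintype_card, Nat.card_eq_fintype_card, Nat.card_eq_fintype_card,
      Fintype.card_subtype, Fintype.card_subtype, Fintype.card_subtype,
      ← Finset.card_union_of_disjoint]
    · congr 1
      ext x
      simp only [Finset.mem_union, Finset.mem_filter, Finset.mem_univ, true_and]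
      tauto
    · exact Finset.disjoint_filter.2 fun x _ h h' => h.2 h'.2
  have hp1 : Nat.card A ≤ c := Nat.le_of_mul_le_mul_right (by rwa [mul_comm c p]) hp.pos
  have : (p - 1) * c = p * c - c := by rw [Nat.sub_mul, one_mul]
  omega

/-- Lower bound for a set of elements of order divisible by `p`. -/
theorem card_sylow_mul_le (h1 : p ∣ Nat.card G) (h2 : ¬ p * p ∣ Nat.card G) (S : Set G) (k : ℕ)
    (T : Sylow p G → Set G) (hT : ∀ P, k ≤ Nat.card (T P))
    (hTS : ∀ P, T P ⊆ S) (hTC : ∀ P : Sylow p G, ∀ x ∈ T P,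
      x ∈ centralizer ((P : Subgroup G) : Set G) ∧ p ∣ orderOf x) :
    Nat.card (Sylow p G) * k ≤ Nat.card S := by
  classical
  haveI := Fintype.ofFinite (Sylow p G)
  calc Nat.card (Sylow p G) * k = ∑ _P : Sylow p G, k := by simp [Nat.card_eq_fintype_card]
    _ ≤ ∑ P : Sylow p G, Nat.card (T P) := Finset.sum_le_sum fun P _ => hT P
    _ = Nat.card (Σ P : Sylow p G, T P) := Nat.card_sigma.symm
    _ ≤ Nat.card S := by
      refine Nat.card_le_card_of_injective (fun z => ⟨z.2.1, hTS z.1 z.2.2⟩) ?_
      rintro ⟨P, x, hx⟩ ⟨P', x', hx'⟩ h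
      obtain rfl : x = x' := congrArg Subtype.val h
      obtain ⟨hxC, hxd⟩ := hTC P x hx
      obtain ⟨hxC', hxd'⟩ := hTC P' x hx'
      obtain rfl : P = P' := Sylow.ext
        ((eq_zpowers h1 h2 P hxC hxd).trans (eq_zpowers h1 h2 P' hxC' hxd').symm)
      rfl

end Cfsg.Lib.Order175560
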