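import Cfsg.Agent.S4274

/-!
The local data of a simple group of order `175560`.
-/

set_option autoImplicit false

open Subgroup

namespace Cfsg.Lib.Order175560

open Cfsg.Agent.S4274

/-- What the search establishes about a completed choice of records. -/
def okRecs (cur : List LocalRec) : Bool :=
  cur.all fun t =>
    (t.p != 3 || (t.s == 2926 && t.c == 10)) &&
    (t.p != 5 || (t.s == 2926 && (t.c == 6 || t.c == 3))) &&
    (t.p != 11 || t.c % 2 == 1 || (t.c == 2 && t.s == 1596) ||
      cur.any fun u => u.p == 5 && u.c != 6)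

/-- The search through compatible choices of records. -/
def goOk (n : ℕ) : List ℕ → List LocalRec → Bool
  | [], cur => decide (n < 1 + (cur.map (weight cur)).sum) || okRecs cur
  | p :: r, cur => ((cands n p).filter fun t => cur.all fun u => pairOK t u && pairOK u t).all
      fun t => goOk n r (t :: cur)

theorem table_simple : goOk 175560 [19, 11, 7, 5, 3] [] = true := by
  decide +kernel

theorem goOk_sound {n : ℕ} : ∀ (ps : List ℕ) (cur : List LocalRec) (f : ℕ → LocalRec),
    goOk n ps cur = true → (∀ p ∈ ps, f p ∈ cands n p) →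
    (∀ t ∈ ps.map f ++ cur, ∀ u ∈ ps.map f ++ cur, pairOK t u = true) →
    n < 1 + ((ps.reverse.map f ++ cur).map (weight (ps.reverse.map f ++ cur))).sum ∨
      okRecs (ps.reverse.map f ++ cur) = true
  | [], cur, f, hg, _, _ => by simpa [goOk] using hg
  | p :: r, cur, f, hg, hc, hp => by
    have h1 : f p ∈ (cands n p).filter fun t => cur.all fun u => pairOK t u && pairOK u t := by
      refine List.mem_filter.2 ⟨hc p (by simp), List.all_eq_true.2 fun u hu => ?_⟩
      rw [hp (f p) (by simp) u (by simp [hu]), hp u (by simp [hu]) (f p) (by simp)]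
      rfl
    rw [goOk, List.all_eq_true] at hg
    have h2 := goOk_sound r (f p :: cur) f (hg _ h1) (fun q hq => hc q (by simp [hq]))
      (fun t ht u hu =>
        hp t (by simp at ht ⊢; aesop) u (by simp at hu ⊢; aesop))
    simpa [List.reverse_cons, List.append_assoc] using h2

theorem exists_recs {G : Type*} [Group G] [Finite G] [IsSimpleGroup G] (hG : Nat.card G = 175560) :
    ∃ f : ℕ → LocalRec, (∀ p ∈ [19, 11, 7, 5, 3], Data G p (f p)) ∧
      okRecs ([3, 5, 7, 11, 19].map f) = true := by
  classical
  haveI := Fintype.ofFinite G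
  set n := Nat.card G with hn
  have hd : n ∣ 175560 := dvd_of_eq hG
  have hps : psOf n = [19, 11, 7, 5, 3] := by rw [hG]; decide
  have hnp : ∀ p ∈ psOf n, n ≠ p := fun p hp h => by
    rw [hps] at hp
    simp at hp
    omega
  haveI : Nonempty LocalRec := ⟨⟨0, 0, 0, 0⟩⟩
  choose! f hf1 hf2 using fun p (hp : p ∈ psOf n) => exists_data hd hp (hnp p hp)
  refine ⟨f, fun p hp => hf2 p (hps ▸ hp), ?_⟩
  have hgo : goOk n (psOf n) [] = true := by rw [hps, hG]; exact table_simple
  have hfp : ∀ p ∈ psOf n, (f p).p = p := fun p hp => (hf2 p hp).1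
  have hor := goOk_sound (psOf n) [] f hgo hf1 (fun t ht u hu => by
    simp only [List.append_nil, List.mem_map] at ht hu
    obtain ⟨p, hp, rfl⟩ := ht
    obtain ⟨q, hq, rfl⟩ := hu
    exact pair_ok hp hq hd (hf2 p hp) (hf2 q hq))
  rw [List.append_nil, List.map_map] at hor
  rcases hor with hlt | hok
  swap
  · rw [hps] at hok; simpa using hok
  exfalso
  set l := (psOf n).reverse.map f with hl
  let S : ℕ → Finset G := fun p => Finset.univ.filter fun x =>
    p ∣ orderOf x ∧ ∀ q ∈ psOf n, p < q → ¬ q ∣ orderOf x
  have hbound : ∀ p ∈ psOf n, weight l (f p) ≤ (S p).card := by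
    intro p hp
    obtain ⟨htp, _, P0, hs, hc⟩ := hf2 p hp
    obtain ⟨hpp, h1, h2⟩ := mem_psOf hp
    have hS' : (S p).card =
        Nat.card {x : G | p ∣ orderOf x ∧ ∀ q ∈ psOf n, p < q → ¬ q ∣ orderOf x} := by
      rw [Nat.card_eq_fintype_card]
      exact (Fintype.card_subtype _).symm
    rw [hS']
    simp only [weight, htp]
    rw [← hs, mul_assoc]
    split_ifs with hcop
    · rw [List.all_eq_true] at hcop
      have hcop' : ∀ q ∈ psOf n, p < q → ¬ q ∣ (f p).c := fun q hq hlt' hd' => by
        have := hcop (f q) (by rw [hl, List.mem_map]; exact ⟨q, List.mem_reverse.2 hq, rfl⟩)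
        simp only [hfp q hq, Bool.or_eq_true, decide_eq_true_eq, bne_iff_ne, ne_eq] at this
        rcases this with h | h
        · omega
        · exact h (Nat.mod_eq_zero_of_dvd hd')
      have hcard : ∀ P : Sylow p G,
          Nat.card ↥(centralizer ((P : Subgroup G) : Set G)) = p * (f p).c := by
        intro P
        rw [← hc]
        obtain ⟨g, rfl⟩ := MulAction.exists_smul_eq G P0 P
        refine (Nat.card_congr ?_).symm
        exact
          { toFun := fun x => ⟨g * x.1 * g⁻¹, by
              refine mem_centralizer_iff.2 fun y hy => ?_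
              rw [SetLike.mem_coe, Sylow.coe_subgroup_smul,
                Subgroup.mem_pointwise_smul_iff_inv_smul_mem] at hy
              simp only [MulAut.smul_def, map_inv, MulAut.conj_inv_apply] at hy
              have := mem_centralizer_iff.1 x.2 _ hy
              have e := congrArg (fun t => g * t * g⁻¹) this
              simpa [mul_assoc] using e⟩
            invFun := fun x => ⟨g⁻¹ * x.1 * g, by
              refine mem_centralizer_iff.2 fun y hy => ?_
              have hy' : g * y * g⁻¹ ∈ ((g • P0 : Sylow p G) : Subgroup G) := by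
                rw [Sylow.coe_subgroup_smul, Subgroup.mem_pointwise_smul_iff_inv_smul_mem]
                have e : (MulAut.conj g)⁻¹ • (g * y * g⁻¹) = y := by
                  simp [MulAut.smul_def, mul_assoc]
                rw [e]
                exact hy
              have := mem_centralizer_iff.1 x.2 _ hy'
              have e := congrArg (fun t => g⁻¹ * t * g) this
              simpa [mul_assoc] using e⟩
            left_inv := fun x => Subtype.ext (by group)
            right_inv := fun x => Subtype.ext (by group) }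
      refine card_sylow_mul_le h1 h2 _ _
        (fun P => {x : G | x ∈ centralizer ((P : Subgroup G) : Set G) ∧ p ∣ orderOf x})
        (fun P => le_card_singular h1 h2 P (hcard P)) ?_ (fun P x hx => hx)
      intro P x hx
      refine ⟨hx.2, fun q hq hlt' hd' => ?_⟩
      have h' : q ∣ p * (f p).c := by
        rw [← hcard P]
        have := orderOf_dvd_natCard (⟨x, hx.1⟩ : ↥(centralizer ((P : Subgroup G) : Set G)))
        rw [orderOf_mk] at this
        exact hd'.trans this
      rcases (mem_psOf hq).1.dvd_mul.1 h' with h | h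
      · exact absurd ((Nat.prime_dvd_prime_iff_eq (mem_psOf hq).1 hpp).1 h) (by omega)
      · exact hcop' q hq hlt' h
    · rw [mul_one]
      have hord : ∀ (P : Sylow p G) (x : G), x ∈ (P : Subgroup G) → x ≠ 1 → orderOf x = p := by
        intro P x hx hx1
        have h := orderOf_dvd_natCard (⟨x, hx⟩ : ↥(P : Subgroup G))
        rw [orderOf_mk, sylow_card_eq h1 h2 P] at h
        rcases hpp.eq_one_or_self_of_dvd _ h with h' | h'
        · exact absurd (orderOf_eq_one_iff.1 h') hx1
        · exact h'
      refine card_sylow_mul_le h1 h2 _ _ (fun P => {x : G | x ∈ (P : Subgroup G) ∧ x ≠ 1})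
        (fun P => le_of_eq ?_) ?_ ?_
      · have e : {x : G | x ∈ (P : Subgroup G) ∧ x ≠ 1} = ((P : Subgroup G) : Set G) \ {1} := rfl
        rw [Nat.card_coe_set_eq, e, Set.ncard_diff_singleton_of_mem (one_mem _)]
        · rw [← Nat.card_coe_set_eq, SetLike.coe_sort_coe, sylow_card_eq h1 h2 P]
      · intro P x hx
        refine ⟨(hord P x hx.1 hx.2).symm ▸ dvd_rfl, fun q hq hlt' hd' => ?_⟩
        rw [hord P x hx.1 hx.2] at hd'
        exact absurd ((Nat.prime_dvd_prime_iff_eq (mem_psOf hq).1 hpp).1 hd') (by omega)
      · intro P x hx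
        exact ⟨sylow_le_centralizer h1 h2 P hx.1, (hord P x hx.1 hx.2).symm ▸ dvd_rfl⟩
  have hdisj : ∀ p ∈ (psOf n).toFinset, ∀ q ∈ (psOf n).toFinset, p ≠ q → Disjoint (S p) (S q) := by
    intro p hp q hq hpq
    rw [List.mem_toFinset] at hp hq
    refine Finset.disjoint_left.2 fun x hx hx' => ?_
    simp only [S, Finset.mem_filter, Finset.mem_univ, true_and] at hx hx'
    rcases lt_or_gt_of_ne hpq with h | h
    · exact hx.2 q hq h hx'.1
    · exact hx'.2 p hp h hx.1
  have hnd : (psOf n).Nodup := List.Nodup.filter _ (by decide)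
  have h1S : (1 : G) ∉ (psOf n).toFinset.biUnion S := by
    simp only [Finset.mem_biUnion, List.mem_toFinset, not_exists, not_and]
    intro p hp hx
    simp only [S, Finset.mem_filter, orderOf_one, Nat.dvd_one] at hx
    exact (mem_psOf hp).1.ne_one hx.2.1
  have htot := Finset.card_le_univ (insert (1 : G) ((psOf n).toFinset.biUnion S))
  rw [Finset.card_insert_of_notMem h1S, Finset.card_biUnion hdisj, ← Nat.card_eq_fintype_card, ← hn]
    at htot
  have hsum : ((psOf n).reverse.map (weight l ∘ f)).sum ≤ ∑ p ∈ (psOf n).toFinset, (S p).card := by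
    rw [List.map_reverse, List.sum_reverse, ← List.sum_toFinset _ hnd]
    exact Finset.sum_le_sum fun p hp => hbound p (List.mem_toFinset.1 hp)
  omega

end Cfsg.Lib.Order175560
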