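import Mathlib
import Cfsg.Agent.Lib.Order175560.Local

/-!
A simple group with `p + 1` Sylow subgroups of prime order `p`, `p + 1` divisible by `4`.
-/

set_option autoImplicit false

open Subgroup

namespace Cfsg.Lib.Order175560

variable {G : Type*} [Group G] [Finite G]

theorem twenty [IsSimpleGroup G] (h1 : 19 ∣ Nat.card G) (h2 : ¬ 19 * 19 ∣ Nat.card G)
    (h20 : haveI : Fact (Nat.Prime 19) := ⟨by norm_num⟩; Nat.card (Sylow 19 G) = 20)
    (P : Sylow 19 G) :
    Nat.card ↥(centralizer ((P : Subgroup G) : Set G)) = 19 ∧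
      ¬ 2 ∣ (centralizer ((P : Subgroup G) : Set G)).relIndex
        (normalizer ((P : Subgroup G) : Set G)) := by
  classical
  haveI : Fact (Nat.Prime 19) := ⟨by norm_num⟩
  haveI := Fintype.ofFinite (Sylow 19 G)
  have hP := sylow_card_eq h1 h2 P
  set C := centralizer ((P : Subgroup G) : Set G) with hC
  set N := normalizer ((P : Subgroup G) : Set G) with hN
  -- a subgroup element fixing another Sylow subgroup is trivial
  have semireg : ∀ u ∈ (P : Subgroup G), ∀ Q : Sylow 19 G, Q ≠ P → u • Q = Q → u = 1 := by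
    intro u hu Q hQ huQ
    by_contra hne
    have hgen : zpowers u = (P : Subgroup G) := by
      refine eq_of_le_of_card_ge (zpowers_le.2 hu) ?_
      rw [Nat.card_zpowers, hP]
      have hd : orderOf u ∣ 19 := by
        have h' := orderOf_dvd_natCard (⟨u, hu⟩ : ↥(P : Subgroup G))
        rwa [orderOf_mk, hP] at h'
      rcases (show Nat.Prime 19 by norm_num).eq_one_or_self_of_dvd _ hd with h | h
      · exact absurd (orderOf_eq_one_iff.1 h) hne
      · rw [h]
    have hle : (P : Subgroup G) ≤ normalizer ((Q : Subgroup G) : Set G) :=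
      hgen ▸ zpowers_le.2 (Sylow.smul_eq_iff_mem_normalizer.1 huQ)
    have hs := P.2.to_sup_of_normal_right' Q.2 hle
    have e1 := Q.3 hs le_sup_right
    exact hQ (Sylow.ext (P.3 Q.2 (e1 ▸ le_sup_left)))
  have fixP : ∀ g : G, g • P = P ↔ g ∈ N := fun g => Sylow.smul_eq_iff_mem_normalizer
  have hPN : (P : Subgroup G) ≤ N := le_normalizer
  have trans' : ∀ Q : Sylow 19 G, Q ≠ P → ∀ Q' : Sylow 19 G, Q' ≠ P →
      ∃ u ∈ (P : Subgroup G), u • Q = Q' := by
    intro Q hQ Q' hQ'
    let φ : ↥(P : Subgroup G) → {R : Sylow 19 G // R ≠ P} := fun u => ⟨(u : G) • Q, fun h => hQ (by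
      have := congrArg ((u : G)⁻¹ • ·) h
      simpa using this.trans ((fixP _).2 (inv_mem (hPN u.2))))⟩
    have hinj : Function.Injective φ := by
      intro u v h
      have h' : (u : G) • Q = (v : G) • Q := congrArg Subtype.val h
      have := semireg ((v : G)⁻¹ * (u : G)) (mul_mem (inv_mem v.2) u.2) Q hQ (by
        rw [mul_smul, h', inv_smul_smul])
      exact Subtype.ext (inv_mul_eq_one.1 this).symm
    have hcard : Nat.card {R : Sylow 19 G // R ≠ P} = Nat.card ↥(P : Subgroup G) := by
      rw [hP, Nat.card_eq_fintype_card, Fintype.card_subtype_compl, Fintype.card_subtype_eq,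
        ← Nat.card_eq_fintype_card, h20]
    have hbij := (Nat.bijective_iff_injective_and_card φ).2 ⟨hinj, hcard.symm⟩
    obtain ⟨u, hu⟩ := hbij.2 ⟨Q', hQ'⟩
    exact ⟨u, u.2, congrArg Subtype.val hu⟩
  let f : G →* Equiv.Perm (Sylow 19 G) := MulAction.toPermHom G (Sylow 19 G)
  have hf : f.ker = ⊥ := by
    refine (MonoidHom.normal_ker f).eq_bot_or_eq_top.resolve_right fun h => ?_
    obtain ⟨Q, hQ⟩ := Fintype.exists_ne_of_one_lt_card
      (by rw [← Nat.card_eq_fintype_card, h20]; norm_num) P
    obtain ⟨g, hg⟩ := MulAction.exists_smul_eq G P Q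
    have : f g = 1 := (MonoidHom.mem_ker).1 (h ▸ mem_top g)
    exact hQ (by rw [← hg]; exact Equiv.congr_fun this P)
  have triv : ∀ g : G, (∀ Q : Sylow 19 G, g • Q = Q) → g = 1 := fun g h => by
    have : g ∈ f.ker := MonoidHom.mem_ker.2 (Equiv.ext h)
    rwa [hf, mem_bot] at this
  obtain ⟨Q0, hQ0⟩ := Fintype.exists_ne_of_one_lt_card
    (by rw [← Nat.card_eq_fintype_card, h20]; norm_num) P
  -- the centralizer is `P`
  have hCeq : C = (P : Subgroup G) := by
    refine le_antisymm (fun k hk => ?_) (sylow_le_centralizer h1 h2 P)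
    have hkN : k ∈ N := centralizer_le_normalizer _ hk
    have hkQ : k • Q0 ≠ P := fun h => hQ0 (by
      have := congrArg (k⁻¹ • ·) h
      simpa using this.trans ((fixP _).2 (inv_mem hkN)))
    obtain ⟨u, hu, huQ⟩ := trans' Q0 hQ0 (k • Q0) hkQ
    have : u⁻¹ * k = 1 := triv _ fun Q => by
      by_cases hQ : Q = P
      · subst hQ
        exact (fixP _).2 (mul_mem (inv_mem (hPN hu)) hkN)
      · obtain ⟨v, hv, rfl⟩ := trans' Q0 hQ0 Q hQ
        have hkv : k * v = v * k := ((mem_centralizer_iff.1 hk) v hv).symm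
        have huv : u⁻¹ * v = v * u⁻¹ :=
          (mem_centralizer_iff.1 (sylow_le_centralizer h1 h2 P hv)) _ (inv_mem hu)
        rw [← mul_smul, mul_assoc, hkv, ← mul_assoc, huv, mul_assoc, mul_smul, mul_smul, ← huQ,
          inv_smul_smul]
    rwa [← inv_mul_eq_one.1 this]
  refine ⟨by rw [hCeq, hP], fun he => ?_⟩
  -- an involution inverting `P`
  have h2N : 2 ∣ Nat.card ↥N := he.trans (relIndex_dvd_card C N)
  haveI : Fact (Nat.Prime 2) := ⟨Nat.prime_two⟩
  obtain ⟨t, ht⟩ := exists_prime_orderOf_dvd_card' 2 h2N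
  have hto : orderOf (t : G) = 2 := by rw [orderOf_coe]; exact ht
  have ht2 : (t : G) * (t : G) = 1 := by
    have := pow_orderOf_eq_one (t : G); rwa [hto, sq] at this
  have htC : (t : G) ∉ C := fun h => by
    rw [hCeq] at h
    have := orderOf_dvd_natCard (⟨(t : G), h⟩ : ↥(P : Subgroup G))
    rw [orderOf_mk, hto, hP] at this
    norm_num at this
  have hinv : ∀ u ∈ (P : Subgroup G), (t : G) * u * (t : G)⁻¹ = u⁻¹ := by
    intro u hu
    have hv : (t : G) * u * (t : G)⁻¹ ∈ (P : Subgroup G) := (mem_normalizer_iff.1 t.2 u).1 hu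
    set v := (t : G) * u * (t : G)⁻¹ with hvdef
    have hy : u * v ∈ (P : Subgroup G) := mul_mem hu hv
    suffices u * v = 1 from eq_inv_of_mul_eq_one_right this
    by_contra hne
    have hti : (t : G)⁻¹ = (t : G) := inv_eq_of_mul_eq_one_right ht2
    have huv : u * v = v * u := (mem_centralizer_iff.1 (sylow_le_centralizer h1 h2 P hv)) u hu
    have hcomm : (t : G) * (u * v) = (u * v) * (t : G) := by
      have h' : (t : G) * (u * v) * (t : G)⁻¹ = u * v :=
        calc (t : G) * (u * v) * (t : G)⁻¹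
            = v * ((t : G) * (t : G) * u * ((t : G)⁻¹ * (t : G)⁻¹)) := by rw [hvdef]; group
          _ = v * u := by rw [hti, ht2, one_mul, mul_one]
          _ = u * v := huv.symm
      calc (t : G) * (u * v) = ((t : G) * (u * v) * (t : G)⁻¹) * (t : G) := by group
        _ = _ := by rw [h']
    have hgen : zpowers (u * v) = (P : Subgroup G) := by
      refine eq_of_le_of_card_ge (zpowers_le.2 hy) ?_
      rw [Nat.card_zpowers, hP]
      have hd : orderOf (u * v) ∣ 19 := by
        have h' := orderOf_dvd_natCard (⟨u * v, hy⟩ : ↥(P : Subgroup G))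
        rwa [orderOf_mk, hP] at h'
      rcases (show Nat.Prime 19 by norm_num).eq_one_or_self_of_dvd _ hd with h | h
      · exact absurd (orderOf_eq_one_iff.1 h) hne
      · rw [h]
    refine htC (mem_centralizer_iff.2 fun w hw => ?_)
    rw [SetLike.mem_coe, ← hgen, mem_zpowers_iff] at hw
    obtain ⟨j, rfl⟩ := hw
    exact ((show Commute (t : G) (u * v) from hcomm).zpow_right j).symm
  set σ := f (t : G) with hσ
  have hσ2 : σ ^ 2 = 1 := by rw [hσ, ← map_pow, sq, ht2, map_one]
  have hσne : σ ≠ 1 := fun h => by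
    have : (t : G) ∈ f.ker := MonoidHom.mem_ker.2 h
    rw [hf, mem_bot] at this
    rw [this, orderOf_one] at hto
    norm_num at hto
  have hσo : orderOf σ = 2 := orderOf_eq_prime hσ2 hσne
  obtain ⟨k, hk⟩ := Equiv.Perm.cycleType_prime_order (σ := σ) (by rw [hσo]; exact Nat.prime_two)
  rw [hσo] at hk
  have hsupp : σ.support.card = 2 * (k + 1) := by
    rw [← Equiv.Perm.sum_cycleType, hk, Multiset.sum_replicate, smul_eq_mul]; ring
  -- exactly two fixed points
  have hPfix : σ P = P := (fixP _).2 t.2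
  let F := (Finset.univ : Finset (Sylow 19 G)).filter fun Q => σ Q = Q
  have hsum : F.card + σ.support.card = 20 := by
    rw [← h20, Nat.card_eq_fintype_card, ← Finset.card_univ,
      ← Finset.card_filter_add_card_filter_not (s := (Finset.univ : Finset (Sylow 19 G)))
        (fun Q => σ Q = Q)]
    congr 1
  have hF1 : 1 ≤ F.card := Finset.card_pos.2 ⟨P, by simp [F, hPfix]⟩
  have hF2 : F.card ≤ 2 := by
    have hE : (F.erase P).card ≤ 1 := by
      refine Finset.card_le_one.2 fun Q hQ Q' hQ' => ?_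
      simp only [Finset.mem_erase, F, Finset.mem_filter, Finset.mem_univ, true_and] at hQ hQ'
      obtain ⟨u, hu, rfl⟩ := trans' Q hQ.1 Q' hQ'.1
      have e1 : (t : G) • (u • Q) = u • Q := hQ'.2
      have e2 : (t : G) • Q = Q := hQ.2
      have e3 : u⁻¹ • Q = u • Q := by
        rw [← hinv u hu, mul_smul, mul_smul]
        have : (t : G)⁻¹ • Q = Q := inv_smul_eq_iff.2 e2.symm
        rw [this, e1]
      have e4 : (u * u) • Q = Q := by rw [mul_smul, ← e3, smul_inv_smul]
      have hu2 : u * u = 1 := semireg _ (mul_mem hu hu) Q hQ.1 e4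
      have hu1 : u = 1 := by
        have hd : orderOf u ∣ 19 := by
          have h' := orderOf_dvd_natCard (⟨u, hu⟩ : ↥(P : Subgroup G))
          rwa [orderOf_mk, hP] at h'
        have hd2 : orderOf u ∣ 2 := orderOf_dvd_of_pow_eq_one (by rw [sq, hu2])
        exact orderOf_eq_one_iff.1 (Nat.eq_one_of_dvd_coprimes (by norm_num) hd hd2)
      rw [hu1, one_smul]
    have := Finset.pred_card_le_card_erase (a := P) (s := F)
    omega
  have hk9 : k = 8 := by omega
  -- so the sign homomorphism is not trivial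
  let s : G →* ℤˣ := Equiv.Perm.sign.comp f
  have hst : s (t : G) = -1 := by
    show Equiv.Perm.sign σ = -1
    rw [Equiv.Perm.sign_of_cycleType, hk, hk9]
    decide
  rcases (MonoidHom.normal_ker s).eq_bot_or_eq_top with h | h
  · have hinj : Function.Injective s := (MonoidHom.ker_eq_bot_iff s).1 h
    have hle := Nat.card_le_card_of_injective _ hinj
    have : Nat.card ℤˣ = 2 := by simp
    have := Nat.le_of_dvd Nat.card_pos h1
    omega
  · have : s (t : G) = 1 := MonoidHom.mem_ker.1 (h ▸ mem_top (t : G))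
    rw [hst] at this
    exact absurd this (by decide)

end Cfsg.Lib.Order175560
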